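import Groth.Agent.GenFree.ReducedMain
import Mathlib.AlgebraicGeometry.Morphisms.Flat
import Mathlib.AlgebraicGeometry.Morphisms.FinitePresentation
import Mathlib.RingTheory.Flat.FaithfullyFlat.Algebra

/-!
Generic flatness for schemes over a reduced base.
-/

universe u

open TensorProduct AlgebraicGeometry CategoryTheory CategoryTheory.Limits

namespace Groth.Agent.GenFree

theorem awayMap_flat_and_surjective {R S : Type u} [CommRing R] [CommRing S] [Algebra R S] (f : R)
    (h : Module.Free (Localization.Away f) (LocalizedModule (Submonoid.powers f) S)) :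
    (Localization.awayMap (algebraMap R S) f).Flat ∧
      (∀ q : Ideal S, q.IsPrime → algebraMap R S f ∉ q →
        Function.Surjective (PrimeSpectrum.comap (Localization.awayMap (algebraMap R S) f))) := by
  let A := Localization.Away f
  let B := Localization.Away (algebraMap R S f)
  letI : Algebra A B := (Localization.awayMap (algebraMap R S) f).toAlgebra
  haveI : IsScalarTower R A B := IsScalarTower.of_algebraMap_eq fun r => by
    rw [RingHom.algebraMap_toAlgebra, Localization.awayMap, IsLocalization.Away.map,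
      IsLocalization.map_eq, IsScalarTower.algebraMap_apply R S B]
  haveI : IsLocalization (Algebra.algebraMapSubmonoid S (Submonoid.powers f)) B := by
    rw [Algebra.algebraMapSubmonoid_powers]; infer_instance
  haveI : Algebra.IsPushout R S A B := Algebra.isPushout_of_isLocalization (Submonoid.powers f) A S B
  haveI : Algebra.IsPushout R A S B := Algebra.IsPushout.symm inferInstance
  haveI : Module.Free A (A ⊗[R] S) :=
    Module.Free.of_equiv (LocalizedModule.equivTensorProduct (Submonoid.powers f) S)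
  haveI : Module.Free A B := Module.Free.of_equiv (Algebra.IsPushout.equiv R A S B).toLinearEquiv
  refine ⟨RingHom.flat_algebraMap_iff.2 (inferInstance : Module.Flat A B), fun q hq hfq => ?_⟩
  haveI : Nontrivial B := by
    have hdis : Disjoint (Submonoid.powers (algebraMap R S f) : Set S) q := by
      rw [Set.disjoint_left]
      rintro _ ⟨k, rfl⟩ hk
      exact hfq (hq.mem_of_pow_mem k hk)
    exact ⟨0, 1, fun h01 => (IsLocalization.isPrime_of_isPrime_disjoint _ B q hq hdis).ne_top
      ((Ideal.eq_top_iff_one _).2 (h01 ▸ zero_mem _))⟩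
  haveI : Module.FaithfullyFlat A B := inferInstance
  exact PrimeSpectrum.comap_surjective_of_faithfullyFlat

/-- a basic open, as an open of the scheme `Spec A` -/
noncomputable abbrev specBasicOpen {A : CommRingCat.{u}} (r : A) : (Spec A).Opens :=
  PrimeSpectrum.basicOpen r

/-- restriction to a smaller open -/
theorem restrict_of_le {P : MorphismProperty Scheme.{u}} [IsZariskiLocalAtTarget P] {X Y : Scheme.{u}}
    (h : X ⟶ Y) {U V : Y.Opens} (hUV : U ≤ V) (hV : P (h ∣_ V)) : P (h ∣_ U) := by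
  have h1 := IsZariskiLocalAtTarget.restrict hV (V.ι ⁻¹ᵁ U)
  have h2 : V.ι ''ᵁ (V.ι ⁻¹ᵁ U) = U := by
    rw [Scheme.Hom.image_preimage_eq_opensRange_inf, Scheme.Opens.opensRange_ι]
    exact inf_eq_right.2 hUV
  exact (P.arrow_mk_iso_iff (morphismRestrictRestrict h V _ ≪≫ morphismRestrictEq h h2)).1 h1

theorem exists_restrict_flat_fp {A B : CommRingCat.{u}} [IsReduced A] (φ : A ⟶ B)
    (hφ : φ.hom.FiniteType) {a : A} (ha : a ≠ 0) :
    ∃ r : A, a ∣ r ∧ r ≠ 0 ∧ Flat (Spec.map φ ∣_ (specBasicOpen r)) ∧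
      LocallyOfFinitePresentation (Spec.map φ ∣_ (specBasicOpen r)) := by
  letI : Algebra A B := φ.hom.toAlgebra
  haveI : Algebra.FiniteType A B := hφ
  obtain ⟨r, har, hr, -, hfree, hfp, -⟩ :=
    generic_freeness_reduced (R := A) (S := B) (M := B) ha
  have hflat := (awayMap_flat_and_surjective r hfree).1
  refine ⟨r, har, hr, ?_, ?_⟩
  · exact (MorphismProperty.arrow_mk_iso_iff (@Flat : MorphismProperty Scheme.{u}) (SpecMapRestrictBasicOpenIso φ r)).2
      ((HasRingHomProperty.Spec_iff (P := (@Flat : MorphismProperty Scheme.{u}))).2 hflat)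
  · exact (MorphismProperty.arrow_mk_iso_iff (@LocallyOfFinitePresentation : MorphismProperty Scheme.{u}) (SpecMapRestrictBasicOpenIso φ r)).2
      ((HasRingHomProperty.Spec_iff (P := (@LocallyOfFinitePresentation : MorphismProperty Scheme.{u}))).2 hfp)

theorem restrict_iso_comp {P : MorphismProperty Scheme.{u}} [P.RespectsIso] {X Y Z : Scheme.{u}}
    (e : X ≅ Y) (k : Y ⟶ Z) (U : Z.Opens) : P ((e.hom ≫ k) ∣_ U) ↔ P (k ∣_ U) := by
  rw [morphismRestrict_comp]
  exact MorphismProperty.cancel_left_of_respectsIso P (e.hom ∣_ k ⁻¹ᵁ U) (k ∣_ U)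

theorem exists_restrict_flat_fp_affine {A : CommRingCat.{u}} [IsReduced A] [Nontrivial A] {X : Scheme.{u}}
    (h : X ⟶ Spec A) [LocallyOfFiniteType h] [QuasiCompact h] :
    ∃ r : A, r ≠ 0 ∧ Flat (h ∣_ (specBasicOpen r)) ∧
      LocallyOfFinitePresentation (h ∣_ (specBasicOpen r)) := by
  classical
  haveI : CompactSpace X := QuasiCompact.compactSpace_of_compactSpace h
  let 𝒰 := X.affineCover.finiteSubcover
  have key : ∀ s : Finset 𝒰.I₀, ∃ r : A, r ≠ 0 ∧ ∀ i ∈ s,
      Flat ((𝒰.f i ≫ h) ∣_ (specBasicOpen r)) ∧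
      LocallyOfFinitePresentation ((𝒰.f i ≫ h) ∣_ (specBasicOpen r)) := by
    intro s
    induction s using Finset.induction_on with
    | empty => exact ⟨1, one_ne_zero, by simp⟩
    | insert i s _ ih =>
      obtain ⟨r, hr, hrs⟩ := ih
      haveI : IsAffine (𝒰.X i) := inferInstance
      let k : 𝒰.X i ⟶ Spec A := 𝒰.f i ≫ h
      obtain ⟨φ, hφ⟩ := Spec.map_surjective ((𝒰.X i).isoSpec.inv ≫ k)
      have hft : φ.hom.FiniteType := (HasRingHomProperty.Spec_iff (P := (@LocallyOfFiniteType : MorphismProperty Scheme.{u}))).1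
        (hφ ▸ (inferInstance : LocallyOfFiniteType ((𝒰.X i).isoSpec.inv ≫ k)))
      obtain ⟨r', hrr', hr', hflat, hfp⟩ := exists_restrict_flat_fp φ hft hr
      rw [hφ] at hflat hfp
      replace hflat : Flat (k ∣_ specBasicOpen r') :=
        (restrict_iso_comp (P := (@Flat : MorphismProperty Scheme.{u})) (𝒰.X i).isoSpec.symm k _).1 hflat
      replace hfp : LocallyOfFinitePresentation (k ∣_ specBasicOpen r') :=
        (restrict_iso_comp (P := (@LocallyOfFinitePresentation : MorphismProperty Scheme.{u})) (𝒰.X i).isoSpec.symm k _).1 hfp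
      refine ⟨r', hr', fun j hj => ?_⟩
      rcases Finset.mem_insert.1 hj with rfl | hj
      · exact ⟨hflat, hfp⟩
      · have hle : PrimeSpectrum.basicOpen r' ≤ PrimeSpectrum.basicOpen r := fun p hp hmem =>
          hp (p.asIdeal.mem_of_dvd hrr' hmem)
        exact ⟨restrict_of_le (P := (@Flat : MorphismProperty Scheme.{u})) _ hle (hrs j hj).1,
          restrict_of_le (P := (@LocallyOfFinitePresentation : MorphismProperty Scheme.{u})) _ hle (hrs j hj).2⟩
  haveI : Fintype 𝒰.I₀ := Fintype.ofFinite _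
  obtain ⟨r, hr, hall⟩ := key Finset.univ
  let D : (Spec A).Opens := specBasicOpen r
  let 𝒲 : (h ⁻¹ᵁ D).toScheme.OpenCover := Scheme.Cover.mkOfCovers 𝒰.I₀ _
    (fun i => 𝒰.f i ∣_ (h ⁻¹ᵁ D)) (fun x => by
      obtain ⟨i, y, hy⟩ := 𝒰.exists_eq x.1
      exact ⟨i, ⟨y, by show 𝒰.f i y ∈ h ⁻¹ᵁ D; rw [hy]; exact x.2⟩, Subtype.ext (by simpa using hy)⟩) inferInstance
  refine ⟨r, hr, ?_, ?_⟩
  · refine IsZariskiLocalAtSource.of_openCover (P := (@Flat : MorphismProperty Scheme.{u})) 𝒲 fun i => ?_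
    have h1 := (hall (show 𝒰.I₀ from i) (Finset.mem_univ _)).1
    rw [morphismRestrict_comp] at h1
    exact h1
  · refine IsZariskiLocalAtSource.of_openCover (P := (@LocallyOfFinitePresentation : MorphismProperty Scheme.{u})) 𝒲 fun i => ?_
    have h1 := (hall (show 𝒰.I₀ from i) (Finset.mem_univ _)).2
    rw [morphismRestrict_comp] at h1
    exact h1

theorem exists_dense_flat_fp {X S : Scheme.{u}} (f : X ⟶ S) [IsReduced S] [LocallyOfFiniteType f]
    [QuasiCompact f] :
    ∃ U : S.Opens, Dense (U : Set ↑S) ∧ Flat (f ∣_ U) ∧ LocallyOfFinitePresentation (f ∣_ U) := by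
  classical
  let T := {W : S.Opens // Flat (f ∣_ W) ∧ LocallyOfFinitePresentation (f ∣_ W)}
  let U : S.Opens := ⨆ W : T, W.1
  have hglue : ∀ (P : MorphismProperty Scheme.{u}) [IsZariskiLocalAtTarget P],
      (∀ W : T, P (f ∣_ W.1)) → P (f ∣_ U) := by
    intro P _ hP
    refine IsZariskiLocalAtTarget.of_iSup_eq_top (P := P) (fun W : T => U.ι ⁻¹ᵁ W.1) ?_ fun W => ?_
    · rw [← Scheme.Hom.preimage_iSup]
      exact TopologicalSpace.Opens.ext (by
        ext x
        simp only [TopologicalSpace.Opens.coe_top, Set.mem_univ, iff_true]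
        exact x.2)
    · refine (P.arrow_mk_iso_iff (morphismRestrictRestrict f U _)).2 (restrict_of_le (P := P) f ?_ (hP W))
      rw [Scheme.Hom.image_preimage_eq_opensRange_inf]
      exact inf_le_right
  refine ⟨U, ?_, hglue (@Flat : MorphismProperty Scheme.{u}) fun W => W.2.1, hglue (@LocallyOfFinitePresentation : MorphismProperty Scheme.{u}) fun W => W.2.2⟩
  rw [dense_iff_inter_open]
  intro O hO ⟨x, hx⟩
  obtain ⟨_, ⟨V₀, hV, rfl⟩, hxV, hVO⟩ := S.isBasis_affineOpens.exists_subset_of_mem_open hx hO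
  let V : S.Opens := V₀
  haveI : IsAffine V.toScheme := hV
  haveI : _root_.IsReduced Γ(V.toScheme, ⊤) := inferInstance
  haveI : Nonempty (Spec Γ(V.toScheme, ⊤) : Scheme) := ⟨V.toScheme.isoSpec.hom ⟨x, hxV⟩⟩
  haveI : Nontrivial Γ(V.toScheme, ⊤) := by
    by_contra hn
    rw [not_nontrivial_iff_subsingleton] at hn
    exact (inferInstance : IsEmpty (PrimeSpectrum Γ(V.toScheme, ⊤))).false
      (Classical.arbitrary (Spec Γ(V.toScheme, ⊤) : Scheme))
  obtain ⟨r, hr, hflat, hfp⟩ := exists_restrict_flat_fp_affine ((f ∣_ V) ≫ V.toScheme.isoSpec.hom)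
  let D : V.toScheme.Opens := V.toScheme.isoSpec.hom ⁻¹ᵁ specBasicOpen r
  rw [morphismRestrict_comp] at hflat hfp
  replace hflat : Flat ((f ∣_ V) ∣_ D) :=
    (MorphismProperty.cancel_right_of_respectsIso (@Flat : MorphismProperty Scheme.{u}) _ _).1 hflat
  replace hfp : LocallyOfFinitePresentation ((f ∣_ V) ∣_ D) :=
    (MorphismProperty.cancel_right_of_respectsIso (@LocallyOfFinitePresentation : MorphismProperty Scheme.{u}) _ _).1 hfp
  let W : T := ⟨V.ι ''ᵁ D,
    (MorphismProperty.arrow_mk_iso_iff (@Flat : MorphismProperty Scheme.{u}) (morphismRestrictRestrict f V D)).1 hflat,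
    (MorphismProperty.arrow_mk_iso_iff (@LocallyOfFinitePresentation : MorphismProperty Scheme.{u}) (morphismRestrictRestrict f V D)).1 hfp⟩
  obtain ⟨p, hp⟩ : ∃ p : (Spec Γ(V.toScheme, ⊤) : Scheme), p ∈ specBasicOpen r := by
    by_contra hne
    push Not at hne
    exact hr (IsNilpotent.eq_zero (PrimeSpectrum.basicOpen_eq_bot_iff r |>.1
      (eq_bot_iff.2 fun p hp => (hne p hp).elim)))
  refine ⟨(V.toScheme.isoSpec.inv p).1, hVO (V.toScheme.isoSpec.inv p).2,
    (le_iSup (fun W : T => W.1) W) ⟨V.toScheme.isoSpec.inv p, ?_, rfl⟩⟩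
  show V.toScheme.isoSpec.hom (V.toScheme.isoSpec.inv p) ∈ specBasicOpen r
  rw [← Scheme.Hom.comp_apply, Iso.inv_hom_id]
  exact hp

end Groth.Agent.GenFree
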