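import Groth.Agent.GenFree.General
import Mathlib.RingTheory.FiniteStability
import Mathlib.Algebra.Module.FinitePresentation
import Mathlib.RingTheory.TensorProduct.Maps

/-!
Generic freeness: the form used in algebraic geometry.
-/

universe u
open TensorProduct MvPolynomial

namespace Groth.Agent.GenFree

theorem free_away_of_dvd {R : Type u} [CommRing R] {f g : R} (h : f ∣ g) (M : Type u) [AddCommGroup M]
    [Module R M] (hf : Module.Free (Localization.Away f) (Localization.Away f ⊗[R] M)) :
    Module.Free (Localization.Away g) (Localization.Away g ⊗[R] M) := by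
  let A₀ := Localization.Away f
  let A := Localization.Away g
  have hunit : IsUnit (algebraMap R A f) :=
    isUnit_of_dvd_unit (map_dvd _ h) (IsLocalization.Away.algebraMap_isUnit g)
  letI : Algebra A₀ A := (IsLocalization.Away.lift (S := A₀) f hunit).toAlgebra
  haveI : IsScalarTower R A₀ A :=
    IsScalarTower.of_algebraMap_eq fun r => (IsLocalization.Away.lift_eq (S := A₀) f hunit r).symm
  exact Module.Free.of_equiv (AlgebraTensorModule.cancelBaseChange R A₀ A A M)

theorem lTensor_bijective_of_torsion {R : Type u} [CommRing R] (f : R) {A : Type u} [CommRing A]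
    [Algebra R A] (hf : IsUnit (algebraMap R A f)) {N M : Type u} [AddCommGroup N] [Module R N]
    [AddCommGroup M] [Module R M] (q : N →ₗ[R] M) (hq : Function.Surjective q)
    (htor : ∀ z, q z = 0 → ∃ k : ℕ, f ^ k • z = 0) : Function.Bijective (q.lTensor A) := by
  refine ⟨fun u v huv => ?_, LinearMap.lTensor_surjective A hq⟩
  rw [← sub_eq_zero]
  have h0 : q.lTensor A (u - v) = 0 := by rw [map_sub, huv, sub_self]
  obtain ⟨w, hw⟩ := ((lTensor_exact A (LinearMap.exact_subtype_ker_map q) hq) (u - v)).1 h0
  rw [← hw]
  clear hw h0
  induction w using TensorProduct.induction_on with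
  | zero => simp
  | tmul a z =>
    obtain ⟨y, hy⟩ := z
    obtain ⟨k, hk⟩ := htor y hy
    have hu : IsUnit (algebraMap R A (f ^ k)) := by rw [map_pow]; exact hf.pow k
    obtain ⟨a', rfl⟩ : ∃ a', a = algebraMap R A (f ^ k) * a' :=
      ⟨hu.unit⁻¹ * a, by rw [← mul_assoc, IsUnit.mul_val_inv, one_mul]⟩
    rw [LinearMap.lTensor_tmul, ← Algebra.smul_def, smul_tmul]
    exact (congrArg (a' ⊗ₜ[R] ·) hk).trans (tmul_zero _ _)
  | add x y hx hy => rw [map_add, hx, hy, add_zero]

/-- **Generic freeness** (Stacks 051Z). -/
theorem generic_freeness {R S M : Type u} [CommRing R] [IsDomain R] [CommRing S] [Algebra R S]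
    [Algebra.FiniteType R S] [AddCommGroup M] [Module S M] [Module R M] [IsScalarTower R S M]
    [Module.Finite S M] :
    ∃ f : R, f ≠ 0 ∧ Module.Free (Localization.Away f) (Localization.Away f ⊗[R] M) ∧
      Module.Free (Localization.Away f) (Localization.Away f ⊗[R] S) ∧
      Algebra.FinitePresentation (Localization.Away f) (Localization.Away f ⊗[R] S) ∧
      Module.FinitePresentation (Localization.Away (algebraMap R S f))
        (LocalizedModule (Submonoid.powers (algebraMap R S f)) M) := by
  classical
  obtain ⟨n, ψ, hψ⟩ := Algebra.FiniteType.iff_quotient_mvPolynomial''.1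
    (inferInstance : Algebra.FiniteType R S)
  obtain ⟨m, πS, hπS⟩ := Module.Finite.exists_fin' S M
  letI : Module (MvPolynomial (Fin n) R) M := Module.compHom M ψ.toRingHom
  haveI : IsScalarTower R (MvPolynomial (Fin n) R) M := ⟨fun r t x => by
    show ψ (r • t) • x = r • (ψ t • x)
    rw [map_smul, smul_assoc]⟩
  letI : Module (MvPolynomial (Fin n) R) S := Module.compHom S ψ.toRingHom
  haveI : IsScalarTower R (MvPolynomial (Fin n) R) S := ⟨fun r t x => by
    show ψ (r • t) • x = r • (ψ t • x)
    rw [map_smul, smul_assoc]⟩
  let π : (Fin m → MvPolynomial (Fin n) R) →ₗ[MvPolynomial (Fin n) R] M :=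
    { toFun := fun v => πS fun j => ψ (v j)
      map_add' := fun v w => by rw [← map_add]; congr 1; funext j; exact map_add ψ _ _
      map_smul' := fun t v => by
        show πS (fun j => ψ (t * v j)) = ψ t • πS fun j => ψ (v j)
        rw [← map_smul]; congr 1; funext j; exact map_mul ψ _ _ }
  have hπ : Function.Surjective π := fun y => by
    obtain ⟨v, rfl⟩ := hπS y
    choose v' hv' using fun j => hψ (v j)
    exact ⟨v', congrArg πS (funext hv')⟩
  let π₁ : (Fin 1 → MvPolynomial (Fin n) R) →ₗ[MvPolynomial (Fin n) R] S :=
    { toFun := fun v => ψ (v 0)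
      map_add' := fun v w => map_add ψ _ _
      map_smul' := fun t v => map_mul ψ _ _ }
  obtain ⟨f₁, hf₁, hfree₁, s, hs, hsat⟩ := exists_free_and_presentation π hπ
  obtain ⟨f₂, hf₂, hfree₂, t, ht, htat⟩ := exists_free_and_presentation π₁
    fun y => ⟨fun _ => (hψ y).choose, (hψ y).choose_spec⟩
  set f := f₁ * f₂
  refine ⟨f, mul_ne_zero hf₁ hf₂, free_away_of_dvd (Dvd.intro f₂ rfl) M hfree₁,
    free_away_of_dvd (Dvd.intro_left f₁ rfl) S hfree₂, ?_, ?_⟩
  · let J : Ideal (MvPolynomial (Fin n) R) := Ideal.span ((t.image fun v => v 0 : Finset _) : Set _)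
    have hJ : J.FG := ⟨_, rfl⟩
    haveI : Algebra.FinitePresentation R (MvPolynomial (Fin n) R ⧸ J) :=
      Algebra.FinitePresentation.quotient hJ
    have hJψ : ∀ a ∈ J, ψ a = 0 := fun a ha => by
      refine (Ideal.span_le (I := RingHom.ker ψ)).2 ?_ ha
      intro b hb
      obtain ⟨v, hv, rfl⟩ := Finset.mem_image.1 hb
      exact ht v hv
    let q : (MvPolynomial (Fin n) R ⧸ J) →ₐ[R] S := Ideal.Quotient.liftₐ J ψ hJψ
    have hq : Function.Surjective q := fun y => by
      obtain ⟨a, rfl⟩ := hψ y
      exact ⟨Ideal.Quotient.mk J a, rfl⟩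
    have hb := lTensor_bijective_of_torsion f (IsLocalization.Away.algebraMap_isUnit (S := Localization.Away f) f)
      q.toLinearMap hq fun z hz => by
        obtain ⟨a, rfl⟩ := Ideal.Quotient.mk_surjective z
        obtain ⟨k, hk⟩ := htat (fun _ => a) hz
        refine ⟨k, ?_⟩
        show f ^ k • Ideal.Quotient.mkₐ R J a = 0
        rw [← map_smul, Ideal.Quotient.mkₐ_eq_mk, Ideal.Quotient.eq_zero_iff_mem, MvPolynomial.smul_eq_C_mul,
          mul_pow, map_mul, mul_assoc]
        refine J.mul_mem_left _ ?_
        have hle : Submodule.span (MvPolynomial (Fin n) R) (t : Set (Fin 1 → MvPolynomial (Fin n) R)) ≤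
            Submodule.comap (LinearMap.proj (R := MvPolynomial (Fin n) R) (φ := fun _ : Fin 1 => MvPolynomial (Fin n) R) 0) J := Submodule.span_le.2 fun v hv =>
          Ideal.subset_span (Finset.mem_image_of_mem _ hv)
        exact hle hk
    suffices hbij : Function.Bijective
        (Algebra.TensorProduct.map (AlgHom.id (Localization.Away f) (Localization.Away f)) q) by
      let e : (Localization.Away f ⊗[R] (MvPolynomial (Fin n) R ⧸ J)) ≃ₐ[Localization.Away f]
          (Localization.Away f ⊗[R] S) := AlgEquiv.ofBijective _ hbij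
      exact Algebra.FinitePresentation.equiv (R := Localization.Away f)
        (A := Localization.Away f ⊗[R] (MvPolynomial (Fin n) R ⧸ J)) (B := Localization.Away f ⊗[R] S) e
    have : ⇑(Algebra.TensorProduct.map (AlgHom.id (Localization.Away f) (Localization.Away f)) q) =
        q.toLinearMap.lTensor (Localization.Away f) := by
      funext z
      induction z using TensorProduct.induction_on with
      | zero => simp
      | tmul a b => simp
      | add x y hx hy => simp only [map_add, hx, hy]
    rw [this]
    exact hb
  · set g := algebraMap R S f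
    let W : Submodule S (Fin m → S) :=
      Submodule.span S (((s.image fun v j => ψ (v j)) : Finset (Fin m → S)) : Set (Fin m → S))
    have hW : W ≤ LinearMap.ker πS := Submodule.span_le.2 fun v hv => by
      obtain ⟨w, hw, rfl⟩ := Finset.mem_image.1 hv
      exact hs w hw
    haveI : Module.FinitePresentation S ((Fin m → S) ⧸ W) :=
      Module.finitePresentation_of_free_of_surjective W.mkQ (Submodule.mkQ_surjective _)
        (by rw [Submodule.ker_mkQ]; exact Submodule.fg_span (Finset.finite_toSet _))
    let L := LocalizedModule.map (Submonoid.powers g) (W.liftQ πS hW)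
    refine Module.FinitePresentation.of_equiv (LinearEquiv.ofBijective L ⟨?_, fun y => ?_⟩)
    · rw [injective_iff_map_eq_zero]
      intro z hz
      induction z using LocalizedModule.induction_on with
      | h x d =>
        obtain ⟨v, rfl⟩ := Submodule.Quotient.mk_surjective _ x
        rw [LocalizedModule.map_mk, Submodule.liftQ_apply] at hz
        obtain ⟨⟨_, k, rfl⟩, hk⟩ := LocalizedModule.mk_eq.1 (hz.trans (LocalizedModule.zero_mk 1).symm)
        simp only [one_smul, smul_zero, Submonoid.smul_def] at hk
        choose v' hv' using fun j => hψ (v j)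
        obtain ⟨l, hl⟩ := hsat ((C (f ^ k) : MvPolynomial (Fin n) R) • v') (by
          rw [map_smul]
          show ψ (C (f ^ k)) • π v' = 0
          rw [show π v' = πS v from congrArg πS (funext hv'), show ψ (C (f ^ k)) = g ^ k by
            rw [← MvPolynomial.algebraMap_eq, AlgHom.commutes, map_pow]]
          exact hk)
        refine LocalizedModule.mk_eq.2 ⟨⟨g ^ (l + k), (Submonoid.mem_powers_iff _ _).2 ⟨l + k, rfl⟩⟩, ?_⟩ |>.trans (LocalizedModule.zero_mk 1)
        simp only [one_smul, smul_zero, Submonoid.smul_def]
        rw [← Submodule.Quotient.mk_smul, Submodule.Quotient.mk_eq_zero]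
        have hmem : ∀ w ∈ Submodule.span (MvPolynomial (Fin n) R) (s : Set (Fin m → MvPolynomial (Fin n) R)),
            (fun j => ψ (w j)) ∈ W := by
          intro w hw
          induction hw using Submodule.span_induction with
          | mem w hw => exact Submodule.subset_span (Finset.mem_image_of_mem _ hw)
          | zero =>
            rw [show (fun j => ψ ((0 : Fin m → MvPolynomial (Fin n) R) j)) = 0 from funext fun _ => map_zero ψ]
            exact zero_mem W
          | add a b _ _ ha hb =>
            rw [show (fun j => ψ ((a + b) j)) = (fun j => ψ (a j)) + fun j => ψ (b j) from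
              funext fun _ => map_add ψ _ _]
            exact add_mem ha hb
          | smul c a _ ha =>
            rw [show (fun j => ψ ((c • a) j)) = ψ c • fun j => ψ (a j) from
              funext fun _ => map_mul ψ _ _]
            exact W.smul_mem _ ha
        have h1 := hmem _ (Submodule.smul_mem _ (C (f₂ ^ l)) hl)
        convert h1 using 1
        funext j
        simp only [Pi.smul_apply, smul_eq_mul, map_mul, hv', ← MvPolynomial.algebraMap_eq,
          AlgHom.commutes, g, ← map_pow]
        rw [← mul_assoc, ← mul_assoc, ← map_mul, ← map_mul]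
        congr 2
        simp only [f, pow_add, mul_pow]
        ring
    · induction y using LocalizedModule.induction_on with
      | h x d =>
        obtain ⟨v, rfl⟩ := hπS x
        exact ⟨LocalizedModule.mk (Submodule.Quotient.mk v) d, by
          rw [LocalizedModule.map_mk, Submodule.liftQ_apply]⟩

end Groth.Agent.GenFree
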