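import Groth.Agent.GenFree.Reduced
import Groth.Agent.GenFree.Main
import Mathlib.RingTheory.Localization.BaseChange
import Mathlib.RingTheory.RingHom.FinitePresentation

/-!
Generic freeness over a reduced ring, packaged.
-/

universe u
open TensorProduct MvPolynomial

namespace Groth.Agent.GenFree

theorem free_away_localized_of_dvd {R : Type u} [CommRing R] {f g : R} (h : f ∣ g) (M : Type u)
    [AddCommGroup M] [Module R M]
    (hf : Module.Free (Localization.Away f) (LocalizedModule (Submonoid.powers f) M)) :
    Module.Free (Localization.Away g) (LocalizedModule (Submonoid.powers g) M) := by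
  haveI : Module.Free (Localization.Away f) (Localization.Away f ⊗[R] M) :=
    Module.Free.of_equiv (LocalizedModule.equivTensorProduct (Submonoid.powers f) M)
  haveI := free_away_of_dvd h M this
  exact Module.Free.of_equiv (LocalizedModule.equivTensorProduct (Submonoid.powers g) M).symm

theorem finitePresentation_awayMap_of_tensor {R S : Type u} [CommRing R] [CommRing S] [Algebra R S]
    (f : R) (h : Algebra.FinitePresentation (Localization.Away f) (Localization.Away f ⊗[R] S)) :
    (Localization.awayMap (algebraMap R S) f).FinitePresentation := by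
  let A := Localization.Away f
  let B := Localization.Away (algebraMap R S f)
  letI : Algebra A B := (Localization.awayMap (algebraMap R S) f).toAlgebra
  haveI : IsScalarTower R A B := IsScalarTower.of_algebraMap_eq fun r => by
    rw [RingHom.algebraMap_toAlgebra, Localization.awayMap, IsLocalization.Away.map,
      IsLocalization.map_eq, IsScalarTower.algebraMap_apply R S B]
  haveI : IsLocalization (Algebra.algebraMapSubmonoid S (Submonoid.powers f)) B := by
    rw [Algebra.algebraMapSubmonoid_powers]; infer_instance
  haveI : Algebra.IsPushout R S A B := Algebra.isPushout_of_isLocalization (Submonoid.powers f) A S B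
  haveI : Algebra.IsPushout R A S B := Algebra.IsPushout.symm inferInstance
  exact Algebra.FinitePresentation.equiv (R := A) (A := A ⊗[R] S) (B := B)
    (Algebra.IsPushout.equiv R A S B)

/-- Generic freeness over a reduced ring. -/
theorem generic_freeness_reduced {R S M : Type u} [CommRing R] [IsReduced R] [CommRing S]
    [Algebra R S] [Algebra.FiniteType R S] [AddCommGroup M] [Module S M] [Module R M]
    [IsScalarTower R S M] [Module.Finite S M] {a : R} (ha : a ≠ 0) :
    ∃ f : R, a ∣ f ∧ f ≠ 0 ∧
      Module.Free (Localization.Away f) (LocalizedModule (Submonoid.powers f) M) ∧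
      Module.Free (Localization.Away f) (LocalizedModule (Submonoid.powers f) S) ∧
      (Localization.awayMap (algebraMap R S) f).FinitePresentation ∧
      Module.FinitePresentation (Localization.Away (algebraMap R S f))
        (LocalizedModule (Submonoid.powers (algebraMap R S f)) M) := by
  classical
  obtain ⟨n, ψ, hψ⟩ := Algebra.FiniteType.iff_quotient_mvPolynomial''.1
    (inferInstance : Algebra.FiniteType R S)
  obtain ⟨m, πS, hπS⟩ := Module.Finite.exists_fin' S M
  letI : Module (MvPolynomial (Fin n) R) M := Module.compHom M ψ.toRingHom
  haveI : IsScalarTower R (MvPolynomial (Fin n) R) M := ⟨fun r t x => by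
    show ψ (r • t) • x = r • (ψ t • x)
    rw [map_smul, smul_assoc]⟩
  letI : Module (MvPolynomial (Fin n) R) S := Module.compHom S ψ.toRingHom
  haveI : IsScalarTower R (MvPolynomial (Fin n) R) S := ⟨fun r t x => by
    show ψ (r • t) • x = r • (ψ t • x)
    rw [map_smul, smul_assoc]⟩
  let π : (Fin m → MvPolynomial (Fin n) R) →ₗ[MvPolynomial (Fin n) R] M :=
    { toFun := fun v => πS fun j => ψ (v j)
      map_add' := fun v w => by rw [← map_add]; congr 1; funext j; exact map_add ψ _ _
      map_smul' := fun t v => by
        show πS (fun j => ψ (t * v j)) = ψ t • πS fun j => ψ (v j)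
        rw [← map_smul]; congr 1; funext j; exact map_mul ψ _ _ }
  have hπ : Function.Surjective π := fun y => by
    obtain ⟨v, rfl⟩ := hπS y
    choose v' hv' using fun j => hψ (v j)
    exact ⟨v', congrArg πS (funext hv')⟩
  let π₁ : (Fin 1 → MvPolynomial (Fin n) R) →ₗ[MvPolynomial (Fin n) R] S :=
    { toFun := fun v => ψ (v 0)
      map_add' := fun v w => map_add ψ _ _
      map_smul' := fun t v => map_mul ψ _ _ }
  obtain ⟨f₁, haf, hf₁, hfree₁, s, hs, hsat⟩ := exists_free_localized ha π hπ
  obtain ⟨f, ⟨c, hc⟩, hf, hfree₂, t, ht, htat⟩ := exists_free_localized hf₁ π₁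
    fun y => ⟨fun _ => (hψ y).choose, (hψ y).choose_spec⟩
  have hdvd : f₁ ∣ f := ⟨c, hc⟩
  refine ⟨f, haf.trans hdvd, hf, free_away_localized_of_dvd hdvd M hfree₁, hfree₂, ?_, ?_⟩
  · apply finitePresentation_awayMap_of_tensor
    let J : Ideal (MvPolynomial (Fin n) R) := Ideal.span ((t.image fun v => v 0 : Finset _) : Set _)
    have hJ : J.FG := ⟨_, rfl⟩
    haveI : Algebra.FinitePresentation R (MvPolynomial (Fin n) R ⧸ J) :=
      Algebra.FinitePresentation.quotient hJ
    have hJψ : ∀ a ∈ J, ψ a = 0 := fun a ha => by
      refine (Ideal.span_le (I := RingHom.ker ψ)).2 ?_ ha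
      intro b hb
      obtain ⟨v, hv, rfl⟩ := Finset.mem_image.1 hb
      exact ht v hv
    let q : (MvPolynomial (Fin n) R ⧸ J) →ₐ[R] S := Ideal.Quotient.liftₐ J ψ hJψ
    have hq : Function.Surjective q := fun y => by
      obtain ⟨a, rfl⟩ := hψ y
      exact ⟨Ideal.Quotient.mk J a, rfl⟩
    have hb := lTensor_bijective_of_torsion f (IsLocalization.Away.algebraMap_isUnit (S := Localization.Away f) f)
      q.toLinearMap hq fun z hz => by
        obtain ⟨a, rfl⟩ := Ideal.Quotient.mk_surjective z
        obtain ⟨k, hk⟩ := htat (fun _ => a) hz
        refine ⟨k, ?_⟩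
        show f ^ k • Ideal.Quotient.mkₐ R J a = 0
        rw [← map_smul, Ideal.Quotient.mkₐ_eq_mk, Ideal.Quotient.eq_zero_iff_mem, MvPolynomial.smul_eq_C_mul]
        have hle : Submodule.span (MvPolynomial (Fin n) R) (t : Set (Fin 1 → MvPolynomial (Fin n) R)) ≤
            Submodule.comap (LinearMap.proj (R := MvPolynomial (Fin n) R) (φ := fun _ : Fin 1 => MvPolynomial (Fin n) R) 0) J :=
          Submodule.span_le.2 fun v hv => Ideal.subset_span (Finset.mem_image_of_mem _ hv)
        exact hle hk
    suffices hbij : Function.Bijective
        (Algebra.TensorProduct.map (AlgHom.id (Localization.Away f) (Localization.Away f)) q) by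
      let e : (Localization.Away f ⊗[R] (MvPolynomial (Fin n) R ⧸ J)) ≃ₐ[Localization.Away f]
          (Localization.Away f ⊗[R] S) := AlgEquiv.ofBijective _ hbij
      exact Algebra.FinitePresentation.equiv (R := Localization.Away f)
        (A := Localization.Away f ⊗[R] (MvPolynomial (Fin n) R ⧸ J)) (B := Localization.Away f ⊗[R] S) e
    have : ⇑(Algebra.TensorProduct.map (AlgHom.id (Localization.Away f) (Localization.Away f)) q) =
        q.toLinearMap.lTensor (Localization.Away f) := by
      funext z
      induction z using TensorProduct.induction_on with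
      | zero => simp
      | tmul a b => simp
      | add x y hx hy => simp only [map_add, hx, hy]
    rw [this]
    exact hb
  · set g := algebraMap R S f
    let W : Submodule S (Fin m → S) :=
      Submodule.span S (((s.image fun v j => ψ (v j)) : Finset (Fin m → S)) : Set (Fin m → S))
    have hW : W ≤ LinearMap.ker πS := Submodule.span_le.2 fun v hv => by
      obtain ⟨w, hw, rfl⟩ := Finset.mem_image.1 hv
      exact hs w hw
    haveI : Module.FinitePresentation S ((Fin m → S) ⧸ W) :=
      Module.finitePresentation_of_free_of_surjective W.mkQ (Submodule.mkQ_surjective _)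
        (by rw [Submodule.ker_mkQ]; exact Submodule.fg_span (Finset.finite_toSet _))
    let L := LocalizedModule.map (Submonoid.powers g) (W.liftQ πS hW)
    refine Module.FinitePresentation.of_equiv (LinearEquiv.ofBijective L ⟨?_, fun y => ?_⟩)
    · rw [injective_iff_map_eq_zero]
      intro z hz
      induction z using LocalizedModule.induction_on with
      | h x d =>
        obtain ⟨v, rfl⟩ := Submodule.Quotient.mk_surjective _ x
        rw [LocalizedModule.map_mk, Submodule.liftQ_apply] at hz
        obtain ⟨⟨_, k, rfl⟩, hk⟩ := LocalizedModule.mk_eq.1 (hz.trans (LocalizedModule.zero_mk 1).symm)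
        simp only [one_smul, smul_zero, Submonoid.smul_def] at hk
        choose v' hv' using fun j => hψ (v j)
        obtain ⟨l, hl⟩ := hsat ((C (f ^ k) : MvPolynomial (Fin n) R) • v') (by
          rw [map_smul]
          show ψ (C (f ^ k)) • π v' = 0
          rw [show π v' = πS v from congrArg πS (funext hv'), show ψ (C (f ^ k)) = g ^ k by
            rw [← MvPolynomial.algebraMap_eq, AlgHom.commutes, map_pow]]
          exact hk)
        refine LocalizedModule.mk_eq.2 ⟨⟨g ^ (l + k), (Submonoid.mem_powers_iff _ _).2 ⟨l + k, rfl⟩⟩, ?_⟩ |>.trans (LocalizedModule.zero_mk 1)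
        simp only [one_smul, smul_zero, Submonoid.smul_def]
        rw [← Submodule.Quotient.mk_smul, Submodule.Quotient.mk_eq_zero]
        have hmem : ∀ w ∈ Submodule.span (MvPolynomial (Fin n) R) (s : Set (Fin m → MvPolynomial (Fin n) R)),
            (fun j => ψ (w j)) ∈ W := by
          intro w hw
          induction hw using Submodule.span_induction with
          | mem w hw => exact Submodule.subset_span (Finset.mem_image_of_mem _ hw)
          | zero =>
            rw [show (fun j => ψ ((0 : Fin m → MvPolynomial (Fin n) R) j)) = 0 from funext fun _ => map_zero ψ]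
            exact zero_mem W
          | add a b _ _ ha hb =>
            rw [show (fun j => ψ ((a + b) j)) = (fun j => ψ (a j)) + fun j => ψ (b j) from
              funext fun _ => map_add ψ _ _]
            exact add_mem ha hb
          | smul c a _ ha =>
            rw [show (fun j => ψ ((c • a) j)) = ψ c • fun j => ψ (a j) from
              funext fun _ => map_mul ψ _ _]
            exact W.smul_mem _ ha
        have h1 := hmem _ (Submodule.smul_mem _ (C (c ^ l)) hl)
        convert h1 using 1
        funext j
        simp only [Pi.smul_apply, smul_eq_mul, map_mul, hv', ← MvPolynomial.algebraMap_eq,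
          AlgHom.commutes, g, ← map_pow]
        rw [← mul_assoc, ← mul_assoc, ← map_mul, ← map_mul]
        congr 2
        rw [pow_add, hc, mul_pow, mul_pow]
        ring
    · induction y using LocalizedModule.induction_on with
      | h x d =>
        obtain ⟨v, rfl⟩ := hπS x
        exact ⟨LocalizedModule.mk (Submodule.Quotient.mk v) d, by
          rw [LocalizedModule.map_mk, Submodule.liftQ_apply]⟩

end Groth.Agent.GenFree
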