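import Groth.Agent.GenFree.Scheme
import Mathlib.AlgebraicGeometry.AffineScheme
import Mathlib.Topology.Sober

/-!
The image of a morphism of finite type meeting the generic point contains a nonempty open.
-/

universe u

open AlgebraicGeometry CategoryTheory

namespace Groth.Agent.GenFree

theorem exists_basicOpen_subset_range_comap {A B : Type u} [CommRing A] [CommRing B] (φ : A →+* B)
    (hφ : φ.FiniteType) (q : PrimeSpectrum B)
    (hmin : ∀ P : PrimeSpectrum A, (PrimeSpectrum.comap φ q).asIdeal ≤ P.asIdeal) :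
    ∃ a : A, a ∉ (PrimeSpectrum.comap φ q).asIdeal ∧
      (PrimeSpectrum.basicOpen a : Set (PrimeSpectrum A)) ⊆ Set.range (PrimeSpectrum.comap φ) := by
  classical
  let p : Ideal A := (PrimeSpectrum.comap φ q).asIdeal
  haveI hp : p.IsPrime := (PrimeSpectrum.comap φ q).2
  have hJq : p.map φ ≤ q.asIdeal := Ideal.map_le_iff_le_comap.2 le_rfl
  let ψ : A ⧸ p →+* B ⧸ p.map φ := Ideal.quotientMap _ φ Ideal.le_comap_map
  letI : Algebra (A ⧸ p) (B ⧸ p.map φ) := ψ.toAlgebra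
  haveI : Algebra.FiniteType (A ⧸ p) (B ⧸ p.map φ) := by
    have h1 : (ψ.comp (Ideal.Quotient.mk p)).FiniteType := by
      rw [Ideal.quotientMap_comp_mk]
      exact (RingHom.FiniteType.of_surjective _ Ideal.Quotient.mk_surjective).comp hφ
    exact RingHom.FiniteType.of_comp_finiteType h1
  obtain ⟨f, -, hf, -, hfree, -, -⟩ := generic_freeness_reduced (R := A ⧸ p) (S := B ⧸ p.map φ)
    (M := B ⧸ p.map φ) (one_ne_zero (α := A ⧸ p))
  obtain ⟨a, rfl⟩ := Ideal.Quotient.mk_surjective f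
  have ha : a ∉ p := fun h => hf (Ideal.Quotient.eq_zero_iff_mem.2 h)
  refine ⟨a, ha, fun P hP => ?_⟩
  have hq' : (q.asIdeal.map (Ideal.Quotient.mk (p.map φ))).IsPrime :=
    Ideal.map_isPrime_of_surjective Ideal.Quotient.mk_surjective (by rwa [Ideal.mk_ker])
  have hsurj := (awayMap_flat_and_surjective (Ideal.Quotient.mk p a) hfree).2 _ hq' (by
    show ψ (Ideal.Quotient.mk p a) ∉ _
    rw [Ideal.quotientMap_mk, Ideal.mem_map_iff_of_surjective _ Ideal.Quotient.mk_surjective]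
    rintro ⟨b, hb, hbe⟩
    rw [Ideal.Quotient.mk_eq_mk_iff_sub_mem] at hbe
    exact ha (show φ a ∈ q.asIdeal by simpa using sub_mem hb (hJq hbe)))
  let P' : Ideal (A ⧸ p) := P.asIdeal.map (Ideal.Quotient.mk p)
  haveI hP' : P'.IsPrime :=
    Ideal.map_isPrime_of_surjective Ideal.Quotient.mk_surjective (by rw [Ideal.mk_ker]; exact hmin P)
  have hcomap : P'.comap (Ideal.Quotient.mk p) = P.asIdeal := by
    rw [Ideal.comap_map_of_surjective' _ Ideal.Quotient.mk_surjective, Ideal.mk_ker]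
    exact sup_eq_left.2 (hmin P)
  have hfP : Ideal.Quotient.mk p a ∉ P' := fun h => hP (by rw [← hcomap]; exact h)
  let L := Localization.Away (Ideal.Quotient.mk p a)
  have hPr : (⟨P', hP'⟩ : PrimeSpectrum (A ⧸ p)) ∈ Set.range (PrimeSpectrum.comap (algebraMap (A ⧸ p) L)) := by
    rw [PrimeSpectrum.localization_away_comap_range L (Ideal.Quotient.mk p a)]
    exact hfP
  obtain ⟨P₁, hP₁⟩ := hPr
  obtain ⟨Q, rfl⟩ := hsurj P₁
  refine ⟨PrimeSpectrum.comap ((algebraMap (B ⧸ p.map φ) _).comp (Ideal.Quotient.mk (p.map φ))) Q, ?_⟩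
  have heq : (Localization.awayMap (algebraMap (A ⧸ p) (B ⧸ p.map φ)) (Ideal.Quotient.mk p a)).comp
      (algebraMap (A ⧸ p) L) = (algebraMap (B ⧸ p.map φ) _).comp ψ := by
    rw [Localization.awayMap, IsLocalization.Away.map, IsLocalization.map_comp]
    rfl
  have h2 : PrimeSpectrum.comap (Ideal.Quotient.mk p) ⟨P', hP'⟩ = P := PrimeSpectrum.ext hcomap
  rw [← h2, ← hP₁, ← PrimeSpectrum.comap_comp_apply, ← PrimeSpectrum.comap_comp_apply,
    ← PrimeSpectrum.comap_comp_apply]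
  congr 1
  rw [RingHom.comp_assoc, ← Ideal.quotientMap_comp_mk (H := Ideal.le_comap_map),
    ← RingHom.comp_assoc, ← RingHom.comp_assoc, heq]

theorem genericPoint_mem_interior_range {X Y : Scheme.{u}} (f : X ⟶ Y)
    [LocallyOfFiniteType f] [IrreducibleSpace Y] (h : genericPoint Y ∈ Set.range f.base) :
    genericPoint Y ∈ interior (Set.range f.base) := by
  obtain ⟨x, hx⟩ := h
  obtain ⟨_, ⟨V₀, hV, rfl⟩, hηV, -⟩ :=
    Y.isBasis_affineOpens.exists_subset_of_mem_open (Set.mem_univ (genericPoint Y)) isOpen_univ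
  let V : Y.Opens := V₀
  have hxV : x ∈ f ⁻¹ᵁ V := by show f.base x ∈ V; rw [hx]; exact hηV
  obtain ⟨_, ⟨U₀, hU, rfl⟩, hxU, hUV⟩ :=
    X.isBasis_affineOpens.exists_subset_of_mem_open hxV (f ⁻¹ᵁ V).isOpen
  let U : X.Opens := U₀
  have e : U ≤ f ⁻¹ᵁ V := hUV
  set φ := f.appLE V U e
  have hφ : φ.hom.FiniteType :=
    HasRingHomProperty.appLE (P := (@LocallyOfFiniteType : MorphismProperty Scheme.{u})) f
      inferInstance ⟨V, hV⟩ ⟨U, hU⟩ e
  have hU' : IsAffineOpen U := hU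
  have hV' : IsAffineOpen V := hV
  let q := hU'.primeIdealOf ⟨x, hxU⟩
  have hq : hU'.fromSpec q = x := hU'.fromSpec_primeIdealOf ⟨x, hxU⟩
  have hcomm : ∀ z, hV'.fromSpec (Spec.map φ z) = f (hU'.fromSpec z) := fun z => by
    rw [← Scheme.Hom.comp_apply, hV'.SpecMap_appLE_fromSpec f hU' e, Scheme.Hom.comp_apply]
  have hη : hV'.fromSpec (Spec.map φ q) = genericPoint Y := by rw [hcomm, hq]; exact hx
  have hmin : ∀ P : PrimeSpectrum Γ(Y, V),
      (PrimeSpectrum.comap φ.hom q).asIdeal ≤ P.asIdeal := by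
    intro P
    have h1 : hV'.fromSpec (Spec.map φ q) ⤳ hV'.fromSpec P := by
      rw [hη]
      exact (genericPoint_spec Y).specializes trivial
    have h2 : Spec.map φ q ⤳ P := hV'.fromSpec.isOpenEmbedding.toIsInducing.specializes_iff.1 h1
    exact (PrimeSpectrum.le_iff_specializes _ _).2 h2
  obtain ⟨a, ha, hsub⟩ := exists_basicOpen_subset_range_comap φ.hom hφ q hmin
  rw [mem_interior]
  refine ⟨hV'.fromSpec '' (PrimeSpectrum.basicOpen a : Set (PrimeSpectrum Γ(Y, V))), ?_,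
    hV'.fromSpec.isOpenEmbedding.isOpenMap _ (PrimeSpectrum.basicOpen a).isOpen, ⟨_, ha, hη⟩⟩
  rintro _ ⟨P, hP, rfl⟩
  obtain ⟨z, hz⟩ := hsub hP
  exact ⟨hU'.fromSpec z, by rw [← hcomm]; exact congrArg _ hz⟩

end Groth.Agent.GenFree
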