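import Groth.Agent.GenFree.Poly
import Mathlib.RingTheory.Adjoin.FG
import Mathlib.RingTheory.FiniteType

/-!
Generic freeness over an arbitrary domain, by descent to a finitely generated `ℤ`-algebra.
-/

universe u
open TensorProduct MvPolynomial

namespace Groth.Agent.GenFree

theorem nonempty_baseChange_equiv {R₀ R : Type u} [CommRing R₀] [CommRing R] [Algebra R₀ R]
    {n m : ℕ} (s₀ : Set (Fin m → MvPolynomial (Fin n) R₀)) (s : Set (Fin m → MvPolynomial (Fin n) R))
    (himg : (fun v j => MvPolynomial.map (algebraMap R₀ R) (v j)) '' s₀ = s) :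
    Nonempty ((R ⊗[R₀] ((Fin m → MvPolynomial (Fin n) R₀) ⧸ Submodule.span (MvPolynomial (Fin n) R₀) s₀))
      ≃ₗ[R] (Fin m → MvPolynomial (Fin n) R) ⧸ Submodule.span (MvPolynomial (Fin n) R) s) := by
  classical
  let ρ : MvPolynomial (Fin n) R₀ →+* MvPolynomial (Fin n) R := MvPolynomial.map (algebraMap R₀ R)
  let U₀ := Submodule.span (MvPolynomial (Fin n) R₀) s₀
  let W := Submodule.span (MvPolynomial (Fin n) R) s
  let M₀ := (Fin m → MvPolynomial (Fin n) R₀) ⧸ U₀
  let ρv : (Fin m → MvPolynomial (Fin n) R₀) →ₗ[R₀] (Fin m → MvPolynomial (Fin n) R) :=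
    { toFun := fun v j => ρ (v j)
      map_add' := fun v w => funext fun j => map_add _ _ _
      map_smul' := fun r v => funext fun j => by
        simp only [Pi.smul_apply, RingHom.id_apply, ρ]
        rw [Algebra.smul_def, map_mul, MvPolynomial.algebraMap_eq, map_C, ← MvPolynomial.smul_eq_C_mul,
          algebraMap_smul] }
  have hρsmul : ∀ t v, ρv (t • v) = ρ t • ρv v := fun t v => funext fun j => by simp [ρv, map_mul]
  have hU₀ : ∀ v ∈ U₀, ρv v ∈ W := by
    intro v hv
    induction hv using Submodule.span_induction with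
    | mem v hv => exact Submodule.subset_span (himg ▸ ⟨v, hv, rfl⟩)
    | zero => rw [map_zero]; exact zero_mem _
    | add a b _ _ ha hb => rw [map_add]; exact add_mem ha hb
    | smul t a _ ha => rw [hρsmul]; exact W.smul_mem _ ha
  let g₀ : ((Fin m → MvPolynomial (Fin n) R₀) ⧸ U₀.restrictScalars R₀) →ₗ[R₀] (Fin m → MvPolynomial (Fin n) R) ⧸ W :=
    (U₀.restrictScalars R₀).liftQ ((W.mkQ.restrictScalars R₀) ∘ₗ ρv) fun v hv =>
      (Submodule.Quotient.mk_eq_zero W).2 (hU₀ v hv)
  let g : M₀ →ₗ[R₀] (Fin m → MvPolynomial (Fin n) R) ⧸ W :=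
    g₀ ∘ₗ (Submodule.Quotient.restrictScalarsEquiv R₀ U₀).symm.toLinearMap
  have hg : ∀ v, g (Submodule.Quotient.mk v) = Submodule.Quotient.mk (ρv v) := fun v => rfl
  let b := Pi.basis fun _ : Fin m => MvPolynomial.basisMonomials (Fin n) R
  let Ψ : (Fin m → MvPolynomial (Fin n) R) →ₗ[R] R ⊗[R₀] M₀ := b.constr R fun i =>
    (1 : R) ⊗ₜ[R₀] Submodule.Quotient.mk (Pi.single i.1 (monomial i.2 1))
  have hb : ∀ j a, b ⟨j, a⟩ = Pi.single j (monomial a 1) := fun j a => by
    rw [Pi.basis_apply, MvPolynomial.coe_basisMonomials]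
  have hΨρ : ∀ v, Ψ (ρv v) = (1 : R) ⊗ₜ[R₀] (Submodule.Quotient.mk v : M₀) := by
    intro v
    let b₀ := Pi.basis fun _ : Fin m => MvPolynomial.basisMonomials (Fin n) R₀
    refine LinearMap.congr_fun (b₀.ext (f₁ := (Ψ.restrictScalars R₀) ∘ₗ ρv)
      (f₂ := (TensorProduct.mk R₀ R M₀ 1) ∘ₗ (U₀.mkQ.restrictScalars R₀)) fun i => ?_) v
    obtain ⟨j, a⟩ := i
    have h1 : b₀ ⟨j, a⟩ = Pi.single j (monomial a 1) := by
      rw [Pi.basis_apply, MvPolynomial.coe_basisMonomials]
    have h2 : ρv (Pi.single j (monomial a 1)) = b ⟨j, a⟩ := by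
      rw [hb]
      funext l
      show ρ ((Pi.single j (monomial a 1) : Fin m → MvPolynomial (Fin n) R₀) l) = _
      by_cases h : l = j
      · subst h; simp [ρ, map_monomial]
      · simp [ρ, Pi.single_eq_of_ne h]
    rw [LinearMap.comp_apply, LinearMap.comp_apply, h1, h2, LinearMap.restrictScalars_apply,
      Module.Basis.constr_basis]
    rfl
  have hΨW : ∀ w ∈ W, Ψ w = 0 := by
    have hgen : ∀ x ∈ s₀, ∀ t : MvPolynomial (Fin n) R, Ψ (t • ρv x) = 0 := by
      intro x hx t
      rw [← t.support_sum_monomial_coeff, Finset.sum_smul, map_sum]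
      refine Finset.sum_eq_zero fun a _ => ?_
      have : monomial a (t.coeff a) • ρv x = t.coeff a • ρv ((monomial a 1 : MvPolynomial (Fin n) R₀) • x) := by
        rw [hρsmul]
        simp only [ρ, map_monomial, map_one, ← smul_assoc, smul_monomial, smul_eq_mul, mul_one]
      rw [this, map_smul, hΨρ,
        show (Submodule.Quotient.mk ((monomial a 1 : MvPolynomial (Fin n) R₀) • x) : M₀) = 0 from
          (Submodule.Quotient.mk_eq_zero U₀).2 (U₀.smul_mem _ (Submodule.subset_span hx)),
        tmul_zero, smul_zero]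
    intro w hw
    suffices ∀ t : MvPolynomial (Fin n) R, Ψ (t • w) = 0 by simpa using this 1
    induction hw using Submodule.span_induction with
    | mem x hx =>
      obtain ⟨x₀, hx₀, rfl⟩ := himg.symm ▸ hx
      exact hgen x₀ hx₀
    | zero => simp
    | add a b _ _ ha hb => intro t; rw [smul_add, map_add, ha, hb, add_zero]
    | smul r a _ ha => intro t; rw [smul_smul]; exact ha _
  let G : R ⊗[R₀] M₀ →ₗ[R] (Fin m → MvPolynomial (Fin n) R) ⧸ W := LinearMap.liftBaseChange R g
  have hG : ∀ v, G (Ψ v) = Submodule.Quotient.mk v := by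
    intro v
    refine LinearMap.congr_fun (b.ext (f₁ := G ∘ₗ Ψ) (f₂ := W.mkQ.restrictScalars R) fun i => ?_) v
    obtain ⟨j, a⟩ := i
    rw [LinearMap.comp_apply, Module.Basis.constr_basis, LinearMap.liftBaseChange_tmul, one_smul, hg,
      hb, LinearMap.restrictScalars_apply, Submodule.mkQ_apply]
    congr 1
    funext l
    show ρ ((Pi.single j (monomial a 1) : Fin m → MvPolynomial (Fin n) R₀) l) = _
    by_cases h : l = j
    · subst h; simp [ρ, map_monomial]
    · simp [ρ, Pi.single_eq_of_ne h]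
  have hGinj : Function.Injective G := by
    let Ψ' : ((Fin m → MvPolynomial (Fin n) R) ⧸ W.restrictScalars R) →ₗ[R] R ⊗[R₀] M₀ := (W.restrictScalars R).liftQ Ψ hΨW
    let Ψ'' : ((Fin m → MvPolynomial (Fin n) R) ⧸ W) →ₗ[R] R ⊗[R₀] M₀ :=
      Ψ' ∘ₗ (Submodule.Quotient.restrictScalarsEquiv R W).symm.toLinearMap
    have : ∀ z, Ψ'' (G z) = z := by
      intro z
      induction z using TensorProduct.induction_on with
      | zero => simp
      | tmul r q =>
        obtain ⟨v, rfl⟩ := Submodule.Quotient.mk_surjective _ q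
        rw [LinearMap.liftBaseChange_tmul, map_smul, hg]
        show r • Ψ (ρv v) = _
        rw [hΨρ, smul_tmul', smul_eq_mul, mul_one]
      | add a b ha hb => simp only [map_add, ha, hb]
    exact Function.LeftInverse.injective this
  exact ⟨LinearEquiv.ofBijective G ⟨hGinj, fun q => by
    obtain ⟨v, rfl⟩ := Submodule.Quotient.mk_surjective _ q
    exact ⟨Ψ v, hG v⟩⟩⟩

variable {R : Type u} [CommRing R] [IsDomain R] {n m : ℕ}

local notation "T" => MvPolynomial (Fin n) R

/-- finitely many elements of `U` span it up to torsion -/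
theorem exists_finset_torsion_span (U : Submodule T (Fin m → T)) :
    ∃ s : Finset (Fin m → T), (s : Set (Fin m → T)) ⊆ U ∧
      ∀ x ∈ U, ∃ a : R, a ≠ 0 ∧ (C a : T) • x ∈ Submodule.span T (s : Set (Fin m → T)) := by
  classical
  let K := FractionRing R
  let μ : (Fin m → T) → (Fin m → MvPolynomial (Fin n) K) := fun x j =>
    MvPolynomial.map (algebraMap R K) (x j)
  have hμinj : Function.Injective μ := fun x y h => funext fun j =>
    MvPolynomial.map_injective _ (IsFractionRing.injective R K) (congrFun h j)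
  have hμadd : ∀ x y, μ (x + y) = μ x + μ y := fun x y => funext fun j => map_add _ _ _
  have hμsmul : ∀ (t : T) x, μ (t • x) = MvPolynomial.map (algebraMap R K) t • μ x :=
    fun t x => funext fun j => map_mul _ _ _
  have hfg : (Submodule.span (MvPolynomial (Fin n) K) (μ '' (U : Set (Fin m → T)))).FG :=
    IsNoetherian.noetherian _
  obtain ⟨s, hs, hspan⟩ := (Submodule.fg_span_iff_fg_span_finset_subset _).1 hfg
  choose! pre hpre using fun y (hy : y ∈ μ '' (U : Set (Fin m → T))) => hy
  refine ⟨s.image pre, ?_, ?_⟩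
  · intro x hx
    obtain ⟨y, hy, rfl⟩ := Finset.mem_image.1 hx
    exact (hpre y (hs hy)).1
  intro x hx
  set W := Submodule.span T ((s.image pre : Finset _) : Set (Fin m → T))
  have key : ∀ y ∈ Submodule.span (MvPolynomial (Fin n) K) (s : Set (Fin m → MvPolynomial (Fin n) K)),
      ∃ a : R, a ≠ 0 ∧ ∃ w ∈ W, (C (algebraMap R K a) : MvPolynomial (Fin n) K) • y = μ w := by
    intro y hy
    induction hy using Submodule.span_induction with
    | mem y hy =>
      refine ⟨1, one_ne_zero, pre y, Submodule.subset_span (Finset.mem_image_of_mem _ hy), ?_⟩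
      rw [map_one, map_one, one_smul, (hpre y (hs hy)).2]
    | zero => exact ⟨1, one_ne_zero, 0, zero_mem _, by simp [μ]; rfl⟩
    | add y z _ _ hy hz =>
      obtain ⟨a, ha, w, hw, ey⟩ := hy
      obtain ⟨b, hb, v, hv, ez⟩ := hz
      refine ⟨a * b, mul_ne_zero ha hb, (C b : T) • w + (C a : T) • v,
        add_mem (W.smul_mem _ hw) (W.smul_mem _ hv), ?_⟩
      rw [hμadd, hμsmul, hμsmul, map_C, map_C, ← ey, ← ez, smul_add, smul_smul, smul_smul,
        map_mul, map_mul]
      congr 1
      rw [mul_comm]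
    | smul p y _ hy =>
      induction p using MvPolynomial.induction_on with
      | C c =>
        obtain ⟨r, b, hb, hc⟩ := IsFractionRing.div_surjective (A := R) c
        obtain ⟨a, ha, w, hw, ey⟩ := hy
        refine ⟨a * b, mul_ne_zero ha (nonZeroDivisors.ne_zero hb), (C r : T) • w, W.smul_mem _ hw, ?_⟩
        rw [hμsmul, map_C, ← ey, smul_smul, smul_smul, ← hc]
        congr 1
        rw [← map_mul, ← map_mul, map_mul (algebraMap R K)]
        congr 1
        have : algebraMap R K b ≠ 0 :=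
          (map_ne_zero_iff _ (IsFractionRing.injective R K)).2 (nonZeroDivisors.ne_zero hb)
        rw [mul_assoc, mul_div_cancel₀ _ this, mul_comm]
      | add p q hp hq =>
        obtain ⟨a, ha, w, hw, ey⟩ := hp
        obtain ⟨b, hb, v, hv, ez⟩ := hq
        refine ⟨a * b, mul_ne_zero ha hb, (C b : T) • w + (C a : T) • v,
          add_mem (W.smul_mem _ hw) (W.smul_mem _ hv), ?_⟩
        rw [hμadd, hμsmul, hμsmul, map_C, map_C, ← ey, ← ez, add_smul, smul_add, smul_smul, smul_smul,
          smul_smul, smul_smul, smul_smul, smul_smul, map_mul, map_mul]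
        congr 2 <;> ring
      | mul_X p i hp =>
        obtain ⟨a, ha, w, hw, ey⟩ := hp
        refine ⟨a, ha, (X i : T) • w, W.smul_mem _ hw, ?_⟩
        rw [hμsmul, map_X, ← ey, smul_smul, smul_smul, smul_smul]
        congr 1
        ring
  obtain ⟨a, ha, w, hw, e⟩ := key (μ x) (hspan ▸ Submodule.subset_span ⟨x, hx, rfl⟩)
  refine ⟨a, ha, ?_⟩
  rw [show (C a : T) • x = w from hμinj (by rw [hμsmul, map_C, e])]
  exact hw

theorem exists_free_finitelyPresented (s : Finset (Fin m → T)) :
    ∃ f : R, f ≠ 0 ∧ Module.Free (Localization.Away f) (Localization.Away f ⊗[R]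
      ((Fin m → T) ⧸ Submodule.span T (s : Set (Fin m → T)))) := by
  classical
  let cs : Finset R := s.biUnion fun x => Finset.univ.biUnion fun j => (x j).support.image fun a => (x j).coeff a
  let R₀ := Algebra.adjoin ℤ (cs : Set R)
  haveI : Algebra.FiniteType ℤ R₀ :=
    (Subalgebra.fg_iff_finiteType R₀).1 (Subalgebra.fg_adjoin_finset cs)
  haveI : IsNoetherianRing R₀ := Algebra.FiniteType.isNoetherianRing ℤ R₀
  let ρ : MvPolynomial (Fin n) R₀ →+* T := MvPolynomial.map (algebraMap R₀ R)
  have hlift : ∀ x ∈ s, ∃ x₀ : Fin m → MvPolynomial (Fin n) R₀, ∀ j, ρ (x₀ j) = x j := by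
    intro x hx
    have : ∀ j, x j ∈ ρ.range := fun j => by
      rw [← (x j).support_sum_monomial_coeff]
      refine Subring.sum_mem _ fun a ha => ?_
      have hc : (x j).coeff a ∈ R₀ := Algebra.subset_adjoin (Finset.mem_biUnion.2
        ⟨x, hx, Finset.mem_biUnion.2 ⟨j, Finset.mem_univ _, Finset.mem_image_of_mem _ ha⟩⟩)
      exact ⟨monomial a ⟨_, hc⟩, by simp [ρ, map_monomial]⟩
    choose x₀ hx₀ using this
    exact ⟨x₀, hx₀⟩
  choose! lift hlift using hlift
  let U₀ := Submodule.span (MvPolynomial (Fin n) R₀) (lift '' (s : Set (Fin m → T)))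
  let M₀ := (Fin m → MvPolynomial (Fin n) R₀) ⧸ U₀
  let W := Submodule.span T (s : Set (Fin m → T))
  obtain ⟨f, hf, hfree⟩ := exists_freeAt_mvPolynomial (R := R₀) n M₀ inferInstance
  refine ⟨algebraMap R₀ R f, fun h => hf (Subtype.ext h), ?_⟩
  have himg : (fun v j => ρ (v j)) '' (lift '' (s : Set (Fin m → T))) = (s : Set (Fin m → T)) := by
    rw [Set.image_image]
    refine (Set.image_congr fun x hx => funext (hlift x hx)).trans (Set.image_id' _)
  obtain ⟨e⟩ : Nonempty ((R ⊗[R₀] M₀) ≃ₗ[R] (Fin m → T) ⧸ W) :=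
    nonempty_baseChange_equiv (R₀ := R₀) (R := R) _ _ himg
  let A₀ := Localization.Away f
  let A := Localization.Away (algebraMap R₀ R f)
  have hunit : IsUnit (algebraMap R₀ A f) := by
    rw [IsScalarTower.algebraMap_apply R₀ R A]
    exact IsLocalization.Away.algebraMap_isUnit _
  haveI := hfree A₀ (IsLocalization.Away.algebraMap_isUnit f)
  let φ : A₀ →+* A := IsLocalization.Away.lift (S := A₀) f hunit
  letI : Algebra A₀ A := φ.toAlgebra
  haveI : IsScalarTower R₀ A₀ A :=
    IsScalarTower.of_algebraMap_eq fun r => (IsLocalization.Away.lift_eq (S := A₀) f hunit r).symm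
  haveI : Module.Free A (A ⊗[R₀] M₀) :=
    Module.Free.of_equiv (AlgebraTensorModule.cancelBaseChange R₀ A₀ A A M₀)
  exact Module.Free.of_equiv ((AlgebraTensorModule.cancelBaseChange R₀ R A A M₀).symm ≪≫ₗ
    e.baseChange R A _ _)

/-- **Generic freeness**, over any domain. -/
theorem exists_free_and_presentation {M : Type u} [AddCommGroup M] [Module R M] [Module T M]
    [IsScalarTower R T M] (π : (Fin m → T) →ₗ[T] M) (hπ : Function.Surjective π) :
    ∃ f : R, f ≠ 0 ∧ Module.Free (Localization.Away f) (Localization.Away f ⊗[R] M) ∧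
      ∃ s : Finset (Fin m → T), (∀ x ∈ s, π x = 0) ∧ ∀ x, π x = 0 →
        ∃ k : ℕ, (C (f ^ k) : T) • x ∈ Submodule.span T (s : Set (Fin m → T)) := by
  classical
  obtain ⟨s, hs, hsU⟩ := exists_finset_torsion_span (LinearMap.ker π)
  obtain ⟨f, hf, hfree⟩ := exists_free_finitelyPresented s
  set W := Submodule.span T (s : Set (Fin m → T))
  set A := Localization.Away f
  haveI := hfree
  haveI : IsDomain A := IsLocalization.isDomain_localization
    (powers_le_nonZeroDivisors_of_noZeroDivisors hf)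
  have hAinj : Function.Injective (algebraMap R A) :=
    IsLocalization.injective A (powers_le_nonZeroDivisors_of_noZeroDivisors hf)
  have htor : ∀ x, π x = 0 → ∃ k : ℕ, (C (f ^ k) : T) • x ∈ W := by
    intro x hx
    obtain ⟨a, ha, hax⟩ := hsU x hx
    have hq : a • (Submodule.Quotient.mk x : (Fin m → T) ⧸ W) = 0 := by
      rw [← Submodule.Quotient.mk_smul, Submodule.Quotient.mk_eq_zero]
      convert hax using 1
      exact funext fun j => (MvPolynomial.smul_eq_C_mul _ _)
    have h1 : algebraMap R A a • ((1 : A) ⊗ₜ[R] (Submodule.Quotient.mk x : (Fin m → T) ⧸ W)) = 0 := by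
      rw [algebraMap_smul, ← tmul_smul, hq, tmul_zero]
    have h2 : (1 : A) ⊗ₜ[R] (Submodule.Quotient.mk x : (Fin m → T) ⧸ W) = 0 :=
      (smul_eq_zero.1 h1).resolve_left ((map_ne_zero_iff _ hAinj).2 ha)
    obtain ⟨⟨_, k, rfl⟩, hk⟩ := IsLocalizedModule.exists_of_eq (S := Submonoid.powers f)
      (f := TensorProduct.mk R A ((Fin m → T) ⧸ W) 1) (x₁ := Submodule.Quotient.mk x) (x₂ := 0)
      (by rw [map_zero]; exact h2)
    refine ⟨k, ?_⟩
    rw [smul_zero, Submonoid.smul_def, ← Submodule.Quotient.mk_smul, Submodule.Quotient.mk_eq_zero] at hk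
    convert hk using 1
    exact funext fun j => (MvPolynomial.smul_eq_C_mul _ _).symm
  refine ⟨f, hf, ?_, s, fun x hx => hs hx, htor⟩
  let q : ((Fin m → T) ⧸ W) →ₗ[R] M :=
    (W.liftQ π (Submodule.span_le.2 fun x hx => hs hx)).restrictScalars R
  have hq : Function.Surjective q := fun y => by
    obtain ⟨x, rfl⟩ := hπ y
    exact ⟨Submodule.Quotient.mk x, rfl⟩
  have hsurj : Function.Surjective (q.baseChange A) := by
    rw [LinearMap.baseChange_eq_ltensor]
    exact LinearMap.lTensor_surjective A hq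
  refine Module.Free.of_equiv (LinearEquiv.ofBijective (q.baseChange A) ⟨?_, hsurj⟩)
  intro u v huv
  rw [← sub_eq_zero]
  have h0 : q.lTensor A (u - v) = 0 := by
    rw [← congrFun (LinearMap.baseChange_eq_ltensor q) (u - v), map_sub, huv, sub_self]
  obtain ⟨w, hw⟩ := ((lTensor_exact A (LinearMap.exact_subtype_ker_map q) hq) (u - v)).1 h0
  rw [← hw]
  clear hw h0
  induction w using TensorProduct.induction_on with
  | zero => simp
  | tmul a z =>
    obtain ⟨⟨y⟩, hy⟩ := z
    obtain ⟨k, hk⟩ := htor y hy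
    have hu : IsUnit (algebraMap R A (f ^ k)) := by
      rw [map_pow]; exact (IsLocalization.Away.algebraMap_isUnit f).pow k
    obtain ⟨a', rfl⟩ : ∃ a', a = algebraMap R A (f ^ k) * a' :=
      ⟨hu.unit⁻¹ * a, by rw [← mul_assoc, IsUnit.mul_val_inv, one_mul]⟩
    rw [LinearMap.lTensor_tmul, ← Algebra.smul_def, smul_tmul]
    have hzero : (f ^ k) • (Submodule.Quotient.mk y : (Fin m → T) ⧸ W) = 0 := by
      rw [← Submodule.Quotient.mk_smul, Submodule.Quotient.mk_eq_zero]
      convert hk using 1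
      exact funext fun j => (MvPolynomial.smul_eq_C_mul _ _)
    exact (congrArg (a' ⊗ₜ[R] ·) hzero).trans (tmul_zero _ _)
  | add x y hx hy => rw [map_add, hx, hy, add_zero]

end Groth.Agent.GenFree
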