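import Mathlib.RingTheory.Flat.Basic
import Mathlib.RingTheory.Flat.Localization
import Mathlib.RingTheory.Spectrum.Prime.FreeLocus
import Mathlib.RingTheory.Polynomial.Basic
import Mathlib.Algebra.Module.Projective
import Mathlib.LinearAlgebra.TensorProduct.Tower
import Mathlib.LinearAlgebra.TensorProduct.RightExactness
import Mathlib.Algebra.DirectSum.Module

/-!
Generic freeness over a Noetherian domain.
-/

universe u
open TensorProduct

namespace Groth.Agent.GenFree

theorem free_of_exact {A N M P : Type u} [CommRing A] [AddCommGroup N] [Module A N] [AddCommGroup M]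
    [Module A M] [AddCommGroup P] [Module A P] (i : N →ₗ[A] M) (p : M →ₗ[A] P)
    (hi : Function.Injective i) (hp : Function.Surjective p) (hex : Function.Exact i p)
    [Module.Free A N] [Module.Free A P] : Module.Free A M := by
  obtain ⟨s, hs⟩ := Module.projective_lifting_property p LinearMap.id hp
  exact Module.Free.of_equiv (hex.splitSurjectiveEquiv hi ⟨s, hs⟩).1.symm

/-- A module exhausted by a chain with free successive quotients is free. -/
theorem free_of_chain {A V : Type u} [CommRing A] [AddCommGroup V] [Module A V]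
    (Vk : ℕ → Submodule A V) (h0 : Vk 0 = ⊥) (hle : ∀ k, Vk k ≤ Vk (k + 1))
    (htop : ∀ v, ∃ k, v ∈ Vk k)
    (hfree : ∀ k, Module.Free A (Vk (k + 1) ⧸ (Vk k).comap (Vk (k + 1)).subtype)) :
    Module.Free A V := by
  classical
  choose s hs using fun k => Module.projective_lifting_property
    ((Vk k).comap (Vk (k + 1)).subtype).mkQ LinearMap.id (Submodule.mkQ_surjective _)
  let Φ : (Π₀ k, (Vk (k + 1) ⧸ (Vk k).comap (Vk (k + 1)).subtype)) →ₗ[A] V :=
    DFinsupp.lsum ℕ fun k => (Vk (k + 1)).subtype ∘ₗ s k
  have hmono : Monotone Vk := monotone_nat_of_le_succ hle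
  have hsurj : ∀ k, Vk k ≤ LinearMap.range Φ := by
    intro k
    induction k with
    | zero => rw [h0]; exact bot_le
    | succ k ih =>
      intro v hv
      let q := ((Vk k).comap (Vk (k + 1)).subtype).mkQ ⟨v, hv⟩
      have h1 : v - (s k q : V) ∈ Vk k := by
        have : ((Vk k).comap (Vk (k + 1)).subtype).mkQ (⟨v, hv⟩ - s k q) = 0 := by
          rw [map_sub, ← LinearMap.comp_apply, hs k, LinearMap.id_apply, sub_self]
        exact Submodule.mem_comap.1 ((Submodule.Quotient.mk_eq_zero ((Vk k).comap (Vk (k + 1)).subtype)).1 this)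
      rw [← sub_add_cancel v (s k q : V)]
      exact add_mem (ih h1) ⟨DFinsupp.single k q, by simp [Φ, DFinsupp.lsum_single]⟩
  have hinj : ∀ x, Φ x = 0 → x = 0 := by
    intro x
    suffices h : ∀ n, ∀ x : Π₀ k, (Vk (k + 1) ⧸ (Vk k).comap (Vk (k + 1)).subtype),
        (∀ k, n ≤ k → x k = 0) → Φ x = 0 → x = 0 from
      h (x.support.sup id + 1) x fun k hk => by
        by_contra hne
        have : id k ≤ x.support.sup id := Finset.le_sup (DFinsupp.mem_support_iff.2 hne)
        simp only [id] at this
        omega
    intro n
    induction n with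
    | zero => exact fun x hx _ => DFinsupp.ext fun k => hx k (Nat.zero_le k)
    | succ n ih =>
      intro x hx h
      let y := x - DFinsupp.single n (x n)
      have hy : ∀ k, n ≤ k → y k = 0 := by
        intro k hk
        rcases eq_or_lt_of_le hk with rfl | hlt
        · simp [y]
        · simp [y, hx k hlt, DFinsupp.single_eq_of_ne hlt.ne']
      have hmem : Φ y ∈ Vk n := by
        rw [DFinsupp.lsum_apply_apply, DFinsupp.sumAddHom_apply, DFinsupp.sum]
        refine Submodule.sum_mem _ fun k hk => ?_
        have hk' : k < n := by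
          by_contra hnk
          exact DFinsupp.mem_support_iff.1 hk (hy k (not_lt.1 hnk))
        exact hmono hk' (s k (y k)).2
      have hxn : x n = 0 := by
        have h1 : (s n (x n) : V) ∈ Vk n := by
          have : Φ x = Φ y + (s n (x n) : V) := by
            have e : Φ (DFinsupp.single n (x n)) = (s n (x n) : V) := by simp [Φ]
            rw [← e, ← map_add]
            exact congrArg Φ (sub_add_cancel x (DFinsupp.single n (x n))).symm
          rw [h] at this
          rw [show (s n (x n) : V) = -Φ y from eq_neg_of_add_eq_zero_right this.symm]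
          exact neg_mem hmem
        rw [← LinearMap.id_apply (R := A) (x n), ← hs n, LinearMap.comp_apply]
        exact (Submodule.Quotient.mk_eq_zero ((Vk n).comap (Vk (n + 1)).subtype)).2 h1
      exact ih x (fun k hk => by
        rcases eq_or_lt_of_le hk with rfl | hlt
        · exact hxn
        · exact hx k hlt) h
  exact Module.Free.of_equiv (LinearEquiv.ofBijective Φ
    ⟨fun a b hab => sub_eq_zero.1 (hinj _ (by rw [map_sub, hab, sub_self])), fun v => (htop v).elim fun k hk => hsurj k hk⟩)

variable {R : Type u} [CommRing R]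

/-- `M` becomes free over every flat `R`-algebra in which `f` is invertible. -/
def FreeAt (f : R) (M : Type u) [AddCommGroup M] [Module R M] : Prop :=
  ∀ (A : Type u) [CommRing A] [Algebra R A] [Module.Flat R A],
    IsUnit (algebraMap R A f) → Module.Free A (A ⊗[R] M)

theorem FreeAt.of_dvd {f g : R} (h : f ∣ g) {M : Type u} [AddCommGroup M] [Module R M]
    (hf : FreeAt f M) : FreeAt g M := fun A _ _ _ hu =>
  hf A (isUnit_of_dvd_unit (map_dvd (algebraMap R A) h) hu)

theorem FreeAt.of_equiv {f : R} {M N : Type u} [AddCommGroup M] [Module R M] [AddCommGroup N]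
    [Module R N] (e : M ≃ₗ[R] N) (hf : FreeAt f M) : FreeAt f N := fun A _ _ _ hu =>
  haveI := hf A hu
  Module.Free.of_equiv (e.baseChange R A M N)

/-- the image of `A ⊗ N` in `A ⊗ M` -/
noncomputable def bcRange (A : Type u) [CommRing A] [Algebra R A] {M : Type u} [AddCommGroup M] [Module R M]
    (N : Submodule R M) : Submodule A (A ⊗[R] M) :=
  LinearMap.range (N.subtype.baseChange A)

noncomputable instance bcRangeAddCommGroup (A : Type u) [CommRing A] [Algebra R A] {M : Type u}
    [AddCommGroup M] [Module R M] (N : Submodule R M) : AddCommGroup (bcRange A N) :=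
  (bcRange A N).addCommGroup

theorem subtype_baseChange_injective (A : Type u) [CommRing A] [Algebra R A] [Module.Flat R A]
    {M : Type u} [AddCommGroup M] [Module R M] (N : Submodule R M) :
    Function.Injective (N.subtype.baseChange A) := by
  rw [LinearMap.baseChange_eq_ltensor]
  exact Module.Flat.lTensor_preserves_injective_linearMap _ (Submodule.subtype_injective _)

theorem free_quotient_range (A : Type u) [CommRing A] [Algebra R A] [Module.Flat R A]
    {M : Type u} [AddCommGroup M] [Module R M] (N N' : Submodule R M) (h : N ≤ N')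
    [Module.Free A (A ⊗[R] (N' ⧸ N.comap N'.subtype))] :
    Module.Free A (bcRange A N' ⧸ (bcRange A N).comap (bcRange A N').subtype) := by
  have hinj := subtype_baseChange_injective A N'
  have hcomp : ∀ w, N'.subtype.baseChange A ((Submodule.inclusion h).baseChange A w) =
      N.subtype.baseChange A w := fun w => by
    rw [← LinearMap.comp_apply, ← LinearMap.baseChange_comp, Submodule.subtype_comp_inclusion]
  have hsurj : Function.Surjective ((N.comap N'.subtype).mkQ.baseChange A) := by
    rw [LinearMap.baseChange_eq_ltensor]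
    exact LinearMap.lTensor_surjective A (Submodule.mkQ_surjective _)
  let g : A ⊗[R] N' →ₗ[A] bcRange A N' ⧸ (bcRange A N).comap (bcRange A N').subtype :=
    Submodule.mkQ _ ∘ₗ LinearMap.codRestrict (bcRange A N') (N'.subtype.baseChange A) fun x => ⟨x, rfl⟩
  have hg : Function.Surjective g := by
    intro q
    obtain ⟨⟨_, x, rfl⟩, rfl⟩ := Submodule.mkQ_surjective _ q
    exact ⟨x, rfl⟩
  have hker : LinearMap.ker g = LinearMap.ker ((N.comap N'.subtype).mkQ.baseChange A) := by
    ext x
    rw [LinearMap.mem_ker, LinearMap.mem_ker]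
    constructor
    · intro hx
      obtain ⟨w, hw⟩ := (Submodule.Quotient.mk_eq_zero _).1 hx
      have h1 : (Submodule.inclusion h).baseChange A w = x := hinj ((hcomp w).trans hw)
      rw [← h1, ← LinearMap.comp_apply, ← LinearMap.baseChange_comp]
      have : (N.comap N'.subtype).mkQ ∘ₗ Submodule.inclusion h = 0 :=
        LinearMap.ext fun y => (Submodule.Quotient.mk_eq_zero _).2 y.2
      rw [this, LinearMap.baseChange_zero, LinearMap.zero_apply]
    · intro hx
      rw [show (N.comap N'.subtype).mkQ.baseChange A x = (N.comap N'.subtype).mkQ.lTensor A x from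
        congrFun (LinearMap.baseChange_eq_ltensor _) x] at hx
      obtain ⟨w, hw⟩ := (lTensor_exact A (LinearMap.exact_subtype_mkQ (N.comap N'.subtype))
        (Submodule.mkQ_surjective _) x).1 hx
      have hw' : (N.comap N'.subtype).subtype.baseChange A w = x :=
        (congrFun (LinearMap.baseChange_eq_ltensor _) w).trans hw
      refine (Submodule.Quotient.mk_eq_zero _).2 ⟨(LinearMap.codRestrict N
        (N'.subtype ∘ₗ (N.comap N'.subtype).subtype) fun y => y.2).baseChange A w, ?_⟩
      show _ = N'.subtype.baseChange A x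
      rw [← hw', ← LinearMap.comp_apply, ← LinearMap.baseChange_comp, ← LinearMap.comp_apply,
        ← LinearMap.baseChange_comp]
      rfl
  exact Module.Free.of_equiv ((LinearMap.quotKerEquivOfSurjective _ hsurj).symm ≪≫ₗ
    Submodule.quotEquivOfEq _ _ hker.symm ≪≫ₗ LinearMap.quotKerEquivOfSurjective g hg)

theorem freeAt_of_chain {f : R} {M : Type u} [AddCommGroup M] [Module R M] (Mk : ℕ → Submodule R M)
    (h0 : Mk 0 = ⊥) (hle : ∀ k, Mk k ≤ Mk (k + 1)) (htop : ∀ v, ∃ k, v ∈ Mk k)
    (hfree : ∀ k, FreeAt f (Mk (k + 1) ⧸ (Mk k).comap (Mk (k + 1)).subtype)) : FreeAt f M := by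
  intro A _ _ _ hu
  refine free_of_chain (fun k => bcRange A (Mk k)) ?_ (fun k => ?_)
    (fun v => ?_) (fun k => ?_)
  · show LinearMap.range _ = ⊥
    rw [LinearMap.range_eq_bot, h0]
    ext ⟨x, hx⟩
    simp [(Submodule.mem_bot R).1 hx]
  · show LinearMap.range _ ≤ LinearMap.range _
    rw [← Submodule.subtype_comp_inclusion (Mk k) (Mk (k + 1)) (hle k), LinearMap.baseChange_comp]
    exact LinearMap.range_comp_le_range _ _
  · have hmono : Monotone Mk := monotone_nat_of_le_succ hle
    induction v using TensorProduct.induction_on with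
    | zero => exact ⟨0, zero_mem _⟩
    | tmul a m =>
      obtain ⟨k, hk⟩ := htop m
      exact ⟨k, a ⊗ₜ ⟨m, hk⟩, by simp⟩
    | add x y hx hy =>
      obtain ⟨k, hk⟩ := hx
      obtain ⟨l, hl⟩ := hy
      refine ⟨max k l, add_mem ?_ ?_⟩
      · obtain ⟨w, rfl⟩ := hk
        refine ⟨(Submodule.inclusion (hmono (le_max_left k l))).baseChange A w, ?_⟩
        rw [← LinearMap.comp_apply, ← LinearMap.baseChange_comp, Submodule.subtype_comp_inclusion]
      · obtain ⟨w, rfl⟩ := hl
        refine ⟨(Submodule.inclusion (hmono (le_max_right k l))).baseChange A w, ?_⟩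
        rw [← LinearMap.comp_apply, ← LinearMap.baseChange_comp, Submodule.subtype_comp_inclusion]
  · haveI := hfree k A hu
    exact free_quotient_range A (Mk k) (Mk (k + 1)) (hle k)

theorem exists_freeAt_finite [IsNoetherianRing R] [IsDomain R] (M : Type u) [AddCommGroup M]
    [Module R M] [Module.Finite R M] : ∃ f : R, f ≠ 0 ∧ FreeAt f M := by
  haveI : Module.FinitePresentation R M :=
    (Module.finitePresentation_iff_finite R M).2 inferInstance
  haveI : Module.Free (FractionRing R) (LocalizedModule (nonZeroDivisors R) M) :=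
    Module.Free.of_divisionRing _ _
  obtain ⟨f, hf, hfree, -⟩ := Module.FinitePresentation.exists_free_localizedModule_powers
    (nonZeroDivisors R) (LocalizedModule.mkLinearMap (nonZeroDivisors R) M) (FractionRing R)
  refine ⟨f, nonZeroDivisors.ne_zero hf, fun A _ _ _ hu => ?_⟩
  let φ : Localization.Away f →ₐ[R] A :=
    { IsLocalization.Away.lift (S := Localization.Away f) f hu with
      commutes' := fun r => IsLocalization.Away.lift_eq f hu r }
  letI : Algebra (Localization.Away f) A := φ.toRingHom.toAlgebra
  haveI : IsScalarTower R (Localization.Away f) A :=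
    IsScalarTower.of_algebraMap_eq fun r => (φ.commutes r).symm
  let e0 : LocalizedModule (Submonoid.powers f) M ≃ₗ[Localization.Away f] Localization.Away f ⊗[R] M :=
    LocalizedModule.equivTensorProduct _ M
  haveI : Module.Free (Localization.Away f) (Localization.Away f ⊗[R] M) := Module.Free.of_equiv e0
  exact Module.Free.of_equiv (AlgebraTensorModule.cancelBaseChange R (Localization.Away f) A A M)

end Groth.Agent.GenFree
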