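import Groth.Agent.GenFree.Noetherian
import Mathlib.RingTheory.FiniteType
import Mathlib.RingTheory.Polynomial.Basic

/-!
Generic freeness for modules finite over a polynomial ring over a Noetherian domain.
-/

universe u
open TensorProduct MvPolynomial

namespace Groth.Agent.GenFree

variable {R : Type u} [CommRing R] [IsNoetherianRing R] [IsDomain R]

/-- the inductive step -/
theorem exists_freeAt_of_chain {T : Type u} [CommRing T] [Algebra R T] [IsNoetherianRing T]
    (hT : ∀ (N : Type u) [AddCommGroup N] [Module R N] [Module T N] [IsScalarTower R T N],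
      Module.Finite T N → ∃ f : R, f ≠ 0 ∧ FreeAt f N)
    {M : Type u} [AddCommGroup M] [Module R M] [Module T M] [IsScalarTower R T M]
    (φ : M →ₗ[T] M) (N : Submodule T M) (hN : N.FG)
    (hgen : ∀ P : Submodule T M, N ≤ P → P.map φ ≤ P → P = ⊤) :
    ∃ f : R, f ≠ 0 ∧ FreeAt f M := by
  classical
  let Mk : ℕ → Submodule T M := fun k => ⨆ i ∈ Finset.range k, N.map (φ ^ i)
  have hMk : ∀ k, Mk (k + 1) = Mk k ⊔ N.map (φ ^ k) := fun k => by
    simp only [Mk, Finset.range_add_one, Finset.iSup_insert]
    exact sup_comm _ _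
  have hle : ∀ k, Mk k ≤ Mk (k + 1) := fun k => (hMk k).symm ▸ le_sup_left
  have hφ : ∀ k, (Mk k).map φ ≤ Mk (k + 1) := by
    intro k
    simp only [Mk, Submodule.map_iSup]
    refine iSup₂_le fun i hi => ?_
    refine le_trans (le_of_eq ?_) (le_iSup₂ (i + 1) (Finset.mem_range.2 (Nat.add_lt_add_right (Finset.mem_range.1 hi) 1)))
    rw [← Submodule.map_comp, ← Module.End.mul_eq_comp, ← pow_succ']
  have hmono : Monotone Mk := monotone_nat_of_le_succ hle
  have htop : ∀ v, ∃ k, v ∈ Mk k := by
    have h1 : (⨆ k, Mk k) = ⊤ := by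
      refine hgen _ (le_trans ?_ (le_iSup Mk 1)) ?_
      · rw [hMk 0]
        refine le_trans (le_of_eq ?_) le_sup_right
        simp [Module.End.one_eq_id]
      · rw [Submodule.map_iSup]
        exact iSup_le fun k => (hφ k).trans (le_iSup Mk (k + 1))
    intro v
    exact (Submodule.mem_iSup_of_directed _ hmono.directed_le).1 (h1.symm ▸ Submodule.mem_top)
  let K : ℕ →o Submodule T N :=
    ⟨fun k => (Mk k).comap ((φ ^ k) ∘ₗ N.subtype), monotone_nat_of_le_succ fun k x hx => by
      show (φ ^ (k + 1)) (x : M) ∈ Mk (k + 1)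
      rw [pow_succ', Module.End.mul_apply]
      exact hφ k ⟨_, hx, rfl⟩⟩
  haveI : Module.Finite T N := Module.Finite.iff_fg.2 hN
  obtain ⟨k₀, hk₀⟩ := monotone_stabilizes_iff_noetherian.2 (inferInstance : IsNoetherian T N) K
  choose f hf0 hf using fun k => hT (N ⧸ K k) inferInstance
  refine ⟨∏ k ∈ Finset.range (k₀ + 1), f k, Finset.prod_ne_zero_iff.2 fun k _ => hf0 k, ?_⟩
  refine freeAt_of_chain (fun k => (Mk k).restrictScalars R) (by simp [Mk]) hle htop fun k => ?_
  have hfree : FreeAt (∏ k ∈ Finset.range (k₀ + 1), f k) (N ⧸ K k) := by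
    rcases le_total k k₀ with hk | hk
    · exact (hf k).of_dvd (Finset.dvd_prod_of_mem f (Finset.mem_range.2 (by omega)))
    · rw [← hk₀ k hk]
      exact (hf k₀).of_dvd (Finset.dvd_prod_of_mem f (Finset.mem_range.2 (by omega)))
  let ψ : N →ₗ[R] ((Mk (k + 1)).restrictScalars R) ⧸
      ((Mk k).restrictScalars R).comap ((Mk (k + 1)).restrictScalars R).subtype :=
    Submodule.mkQ _ ∘ₗ LinearMap.codRestrict _ (((φ ^ k) ∘ₗ N.subtype).restrictScalars R)
      fun x => (hMk k).symm ▸ Submodule.mem_sup_right ⟨x, x.2, rfl⟩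
  have hψ : Function.Surjective ψ := by
    intro q
    obtain ⟨⟨v, hv⟩, rfl⟩ := Submodule.mkQ_surjective _ q
    rw [Submodule.restrictScalars_mem, hMk k, Submodule.mem_sup] at hv
    obtain ⟨a, ha, _, ⟨x, hx, rfl⟩, hab⟩ := hv
    refine ⟨⟨x, hx⟩, (Submodule.Quotient.eq _).2 ?_⟩
    show (φ ^ k) x - v ∈ Mk k
    rw [← hab, sub_add_cancel_right]
    exact neg_mem ha
  have hker : LinearMap.ker ψ = (K k).restrictScalars R := by
    ext x
    rw [LinearMap.mem_ker]
    exact Submodule.Quotient.mk_eq_zero _
  exact hfree.of_equiv ((Submodule.Quotient.restrictScalarsEquiv R (K k)).symm ≪≫ₗ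
    Submodule.quotEquivOfEq _ _ hker.symm ≪≫ₗ LinearMap.quotKerEquivOfSurjective ψ hψ)

theorem exists_freeAt_mvPolynomial (n : ℕ) :
    ∀ (M : Type u) [AddCommGroup M] [Module R M] [Module (MvPolynomial (Fin n) R) M]
      [IsScalarTower R (MvPolynomial (Fin n) R) M],
      Module.Finite (MvPolynomial (Fin n) R) M → ∃ f : R, f ≠ 0 ∧ FreeAt f M := by
  induction n with
  | zero =>
    intro M _ _ _ _ hM
    haveI : Module.Finite R (MvPolynomial (Fin 0) R) :=
      Module.Finite.equiv (isEmptyAlgEquiv R (Fin 0)).toLinearEquiv.symm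
    haveI := Module.Finite.trans (R := R) (MvPolynomial (Fin 0) R) M
    exact exists_freeAt_finite M
  | succ n ih =>
    intro M _ _ _ _ hM
    let ι : MvPolynomial (Fin n) R →ₐ[R] MvPolynomial (Fin (n + 1)) R := rename Fin.succ
    letI : Module (MvPolynomial (Fin n) R) M := Module.compHom M ι.toRingHom
    haveI : IsScalarTower R (MvPolynomial (Fin n) R) M := ⟨fun r t m => by
      show ι (r • t) • m = r • (ι t • m)
      rw [map_smul, smul_assoc]⟩
    let φ : M →ₗ[MvPolynomial (Fin n) R] M :=
      { toFun := fun m => (X 0 : MvPolynomial (Fin (n + 1)) R) • m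
        map_add' := smul_add _
        map_smul' := fun t m => smul_comm _ (ι t) m }
    obtain ⟨s, hs⟩ := hM.fg_top
    refine exists_freeAt_of_chain (fun N _ _ _ _ hN => ih N hN) φ (Submodule.span _ (s : Set M))
      (Submodule.fg_span (Finset.finite_toSet s)) fun P hP hPφ => ?_
    have hP' : ∀ (t : MvPolynomial (Fin (n + 1)) R), ∀ m ∈ P, t • m ∈ P := by
      intro t
      induction t using MvPolynomial.induction_on with
      | C r =>
        intro m hm
        have : (C r : MvPolynomial (Fin (n + 1)) R) • m = ι (C r) • m := by rw [rename_C]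
        rw [this]
        exact P.smul_mem (C r) hm
      | add p q hp hq => intro m hm; rw [add_smul]; exact add_mem (hp m hm) (hq m hm)
      | mul_X p i hp =>
        intro m hm
        rw [mul_smul]
        refine hp _ ?_
        induction i using Fin.cases with
        | zero => exact hPφ ⟨m, hm, rfl⟩
        | succ j =>
          have : (X j.succ : MvPolynomial (Fin (n + 1)) R) = ι (X j) := (rename_X _ _).symm
          rw [this]
          exact P.smul_mem (X j) hm
    rw [eq_top_iff]
    rintro m -
    have hm : m ∈ Submodule.span (MvPolynomial (Fin (n + 1)) R) (s : Set M) := hs.symm ▸ Submodule.mem_top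
    induction hm using Submodule.span_induction with
    | mem x hx => exact hP (Submodule.subset_span hx)
    | zero => exact P.zero_mem
    | add x y _ _ hx hy => exact add_mem hx hy
    | smul t x _ hx => exact hP' t x hx

end Groth.Agent.GenFree
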