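import Mathlib.RingTheory.MvPolynomial.MonomialOrder
import Mathlib.Data.Finsupp.MonomialOrder
import Mathlib.Data.Finsupp.PWO
import Mathlib.RingTheory.Nilpotent.Basic
import Mathlib.RingTheory.Localization.Module
import Mathlib.RingTheory.Localization.BaseChange
import Mathlib.LinearAlgebra.TensorProduct.Basis
import Mathlib.RingTheory.Localization.Away.Basic
import Mathlib.LinearAlgebra.Basis.Basic

/-!
Generic freeness over a reduced ring, by leading terms.
-/

universe u

namespace Groth.Agent.GenFree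

open MvPolynomial

variable {R : Type u} [CommRing R] {n m : ℕ}

/-- index of a monomial in a free module over the polynomial ring -/
abbrev Idx (n m : ℕ) : Type := Fin m × (Fin n →₀ ℕ)

/-- a well order on monomials -/
noncomputable def idxKey (e : Idx n m) : Fin m ×ₗ (MonomialOrder.lex (σ := Fin n)).syn :=
  toLex (e.1, MonomialOrder.lex.toSyn e.2)

theorem idxKey_injective : Function.Injective (idxKey (n := n) (m := m)) := by
  intro a b h
  have h' := toLex.injective h
  simp only [Prod.mk.injEq, EmbeddingLike.apply_eq_iff_eq] at h'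
  exact Prod.ext h'.1 h'.2

theorem idxKey_add_lt {e e' : Idx n m} (h : idxKey e' < idxKey e) (γ : Fin n →₀ ℕ) :
    idxKey (e'.1, e'.2 + γ) < idxKey (e.1, e.2 + γ) := by
  simp only [idxKey, Prod.Lex.toLex_lt_toLex, map_add] at h ⊢
  rcases h with h | ⟨h, h'⟩
  · exact Or.inl h
  · exact Or.inr ⟨h, add_lt_add_of_lt_of_le h' le_rfl⟩

theorem exists_eq_fst_and_le (e : ℕ → Idx n m) :
    ∃ i j, i < j ∧ (e i).1 = (e j).1 ∧ (e i).2 ≤ (e j).2 := by
  have h : WellQuasiOrdered fun a b : Idx n m => a.1 = b.1 ∧ a.2 ≤ b.2 :=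
    (Finite.wellQuasiOrdered (r := fun a b : Fin m => a = b)).prod wellQuasiOrdered_le
  obtain ⟨i, j, hij, h1, h2⟩ := h e
  exact ⟨i, j, hij, h1, h2⟩

/-- coefficient of a monomial -/
def idxCoeff (x : Fin m → MvPolynomial (Fin n) R) (e : Idx n m) : R := (x e.1).coeff e.2

/-- everything of `x` lies strictly below `e` -/
def Below (x : Fin m → MvPolynomial (Fin n) R) (e : Idx n m) : Prop :=
  ∀ e', idxCoeff x e' ≠ 0 → idxKey e' < idxKey e

theorem idxCoeff_smul (r : R) (x : Fin m → MvPolynomial (Fin n) R) (e : Idx n m) :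
    idxCoeff (r • x) e = r * idxCoeff x e := by
  simp [idxCoeff]

theorem ext_idxCoeff {x y : Fin m → MvPolynomial (Fin n) R} (h : ∀ e, idxCoeff x e = idxCoeff y e) :
    x = y :=
  funext fun j => MvPolynomial.ext _ _ fun a => h (j, a)

theorem top_induction {P : (Fin m → MvPolynomial (Fin n) R) → Prop}
    (step : ∀ x, ∀ e, (∀ e', idxCoeff x e' ≠ 0 → idxKey e' ≤ idxKey e) →
      (∀ y, Below y e → P y) → P x) (h0 : P 0) (x : Fin m → MvPolynomial (Fin n) R) : P x := by
  classical
  have top : ∀ x : Fin m → MvPolynomial (Fin n) R, x ≠ 0 →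
      ∃ e, idxCoeff x e ≠ 0 ∧ ∀ e', idxCoeff x e' ≠ 0 → idxKey e' ≤ idxKey e := by
    intro x hx
    let s : Finset (Idx n m) := Finset.univ.biUnion fun j => (x j).support.image fun a => (j, a)
    have hs : ∀ e, e ∈ s ↔ idxCoeff x e ≠ 0 := by
      rintro ⟨j, a⟩
      simp [s, idxCoeff, MvPolynomial.mem_support_iff]
    have hne : s.Nonempty := by
      by_contra h
      rw [Finset.not_nonempty_iff_eq_empty] at h
      refine hx (ext_idxCoeff fun e => ?_)
      have := (hs e).not.1 (by simp [h])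
      simpa [idxCoeff] using this
    obtain ⟨e, he, hmax⟩ := s.exists_max_image idxKey hne
    exact ⟨e, (hs e).1 he, fun e' he' => hmax e' ((hs e').2 he')⟩
  have key : ∀ e x, (∀ e', idxCoeff x e' ≠ 0 → idxKey e' ≤ idxKey e) → P x := by
    intro e
    induction e using (InvImage.wf idxKey (wellFounded_lt (α := Fin m ×ₗ (MonomialOrder.lex (σ := Fin n)).syn))).induction with
    | _ e ih =>
      intro x hx
      refine step x e hx fun y hy => ?_
      by_cases hy0 : y = 0
      · exact hy0 ▸ h0
      obtain ⟨e', he', hmax⟩ := top y hy0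
      exact ih e' (hy e' he') y hmax
  by_cases hx : x = 0
  · exact hx ▸ h0
  obtain ⟨e, _, hmax⟩ := top x hx
  exact key e x hmax

variable (U : Submodule (MvPolynomial (Fin n) R) (Fin m → MvPolynomial (Fin n) R))

/-- exponents of leading terms of `U` with coefficient a power of `f` -/
def leads (f : R) : Set (Idx n m) :=
  {e | ∃ k : ℕ, ∃ x ∈ U, idxCoeff x e = f ^ k ∧ ∀ e', idxKey e < idxKey e' → idxCoeff x e' = 0}

variable {U}

theorem leads_mono {f g : R} (h : f ∣ g) : leads U f ⊆ leads U g := by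
  rintro e ⟨k, x, hx, he, hab⟩
  obtain ⟨c, rfl⟩ := h
  refine ⟨k, (C (c ^ k) : MvPolynomial (Fin n) R) • x, U.smul_mem _ hx, ?_, fun e' he' => ?_⟩
  · simp only [idxCoeff, Pi.smul_apply, smul_eq_mul, coeff_C_mul] at he ⊢
    rw [he, ← mul_pow, mul_comm c f]
  · have := hab e' he'
    simp only [idxCoeff, Pi.smul_apply, smul_eq_mul, coeff_C_mul] at this ⊢
    rw [this, mul_zero]

theorem exists_maximal_leads [IsReduced R] {a : R} (ha : a ≠ 0) :
    ∃ f, a ∣ f ∧ f ≠ 0 ∧ ∀ g, f ∣ g → g ≠ 0 → leads U g ⊆ leads U f := by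
  by_contra hcon
  push Not at hcon
  have hnext : ∀ p : {f : R // a ∣ f ∧ f ≠ 0}, ∃ q : {f : R // a ∣ f ∧ f ≠ 0},
      leads U p.1 ⊆ leads U q.1 ∧ ∃ e, e ∈ leads U q.1 ∧ e ∉ leads U p.1 := by
    rintro ⟨f, hf, hf0⟩
    obtain ⟨g, hfg, hg0, hne⟩ := hcon f hf hf0
    exact ⟨⟨g, hf.trans hfg, hg0⟩, leads_mono hfg, Set.not_subset.1 hne⟩
  choose nx hsub e he he' using hnext
  let F : ℕ → {f : R // a ∣ f ∧ f ≠ 0} := fun k => nx^[k] ⟨a, dvd_rfl, ha⟩
  have hF : ∀ k, F (k + 1) = nx (F k) := fun k => Function.iterate_succ_apply' _ _ _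
  have hmono : Monotone fun k => leads U (F k).1 := monotone_nat_of_le_succ fun k => by
    simp only [hF]; exact hsub _
  obtain ⟨i, j, hij, h1, h2⟩ := exists_eq_fst_and_le fun k => e (F k)
  refine he' (F j) (hmono hij ?_)
  show _ ∈ leads U (F (i + 1)).1
  rw [hF]
  obtain ⟨γ, hγ⟩ := le_iff_exists_add.1 h2
  obtain ⟨k, x, hx, hxe, hab⟩ := he (F i)
  have hej : e (F j) = ((e (F i)).1, (e (F i)).2 + γ) := Prod.ext h1.symm hγ
  rw [hej]
  refine ⟨k, (monomial γ (1 : R)) • x, U.smul_mem _ hx, ?_, fun e' he'' => ?_⟩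
  · simpa [idxCoeff, coeff_monomial_mul', add_comm] using hxe
  · simp only [idxCoeff, Pi.smul_apply, smul_eq_mul, coeff_monomial_mul', one_mul]
    split_ifs with hle
    · refine hab (e'.1, e'.2 - γ) (lt_of_not_ge fun hge => ?_)
      rcases eq_or_lt_of_le hge with heq | hlt
      · have h3 := idxKey_injective heq
        refine (ne_of_lt he'') (congrArg idxKey ?_)
        rw [← h3]
        exact Prod.ext rfl (tsub_add_cancel_of_le hle)
      · have h4 := idxKey_add_lt hlt γ
        rw [tsub_add_cancel_of_le hle] at h4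
        exact lt_asymm h4 he''
    · rfl

theorem idxCoeff_sub_smul (r : R) (x y : Fin m → MvPolynomial (Fin n) R) (e : Idx n m) :
    idxCoeff (x - r • y) e = idxCoeff x e - r * idxCoeff y e := by
  simp [idxCoeff]

theorem below_step {x y : Fin m → MvPolynomial (Fin n) R} {e : Idx n m} {c d : R}
    (hx : ∀ e', idxCoeff x e' ≠ 0 → idxKey e' ≤ idxKey e)
    (hy : ∀ e', idxKey e < idxKey e' → idxCoeff y e' = 0)
    (he : c * idxCoeff x e = d * idxCoeff y e) : Below (c • x - d • y) e := by
  intro e' he'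
  rw [idxCoeff_sub_smul, idxCoeff_smul] at he'
  by_contra hlt
  rcases eq_or_lt_of_le (not_lt.1 hlt) with heq | hlt
  · rw [← idxKey_injective heq] at he'
    exact he' (by rw [he, sub_self])
  · have h1 : idxCoeff x e' = 0 := by
      by_contra h
      exact (not_le.2 hlt) (hx e' h)
    exact he' (by rw [h1, hy e' hlt, mul_zero, mul_zero, sub_self])

variable (U) in
/-- **Leading term division.**  Over a reduced ring, below any nonzero `a` there is a nonzero `f`
such that, up to powers of `f`, `U` is generated by finitely many elements and has the monomials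
outside `leads U f` as a complement. -/
theorem exists_standard_monomials [IsReduced R] {a : R} (ha : a ≠ 0) :
    ∃ f, a ∣ f ∧ f ≠ 0 ∧ ∃ (B : Set (Idx n m))
      (s : Finset (Fin m → MvPolynomial (Fin n) R)), (s : Set (Fin m → MvPolynomial (Fin n) R)) ⊆ U ∧
      (∀ x, ∃ k : ℕ, ∃ y, (∀ e, e ∉ B → idxCoeff y e = 0) ∧
        f ^ k • x - y ∈ Submodule.span (MvPolynomial (Fin n) R) (s : Set (Fin m → MvPolynomial (Fin n) R))) ∧
      ∀ x ∈ U, (∀ e, e ∉ B → idxCoeff x e = 0) → ∃ k : ℕ, f ^ k • x = 0 := by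
  classical
  obtain ⟨f, hfa, hf0, hmax⟩ := exists_maximal_leads (U := U) ha
  have hnot : ∀ x ∈ U, ∀ e, (∀ e', idxKey e < idxKey e' → idxCoeff x e' = 0) → e ∉ leads U f →
      f * idxCoeff x e = 0 := by
    intro x hx e hab he
    by_contra hne
    refine he (hmax _ (dvd_mul_right f (idxCoeff x e)) hne ⟨1, (C f : MvPolynomial (Fin n) R) • x,
      U.smul_mem _ hx, ?_, fun e' he' => ?_⟩)
    · simp [idxCoeff]
    · have := hab e' he'
      simp only [idxCoeff, Pi.smul_apply, smul_eq_mul, coeff_C_mul] at this ⊢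
      rw [this, mul_zero]
  obtain ⟨F, hFL, hF⟩ : ∃ F : Finset (Idx n m), (↑F ⊆ leads U f) ∧
      ∀ e ∈ leads U f, ∃ e₀ ∈ F, e₀.1 = e.1 ∧ e₀.2 ≤ e.2 := by
    by_contra hcon
    push Not at hcon
    have hstep : ∀ F : {F : Finset (Idx n m) // ↑F ⊆ leads U f}, ∃ e, e ∈ leads U f ∧
        ∀ e₀ ∈ F.1, ¬ (e₀.1 = e.1 ∧ e₀.2 ≤ e.2) := fun F => by
      obtain ⟨e, he, h⟩ := hcon F.1 F.2
      exact ⟨e, he, fun e₀ h₀ h' => h e₀ h₀ h'.1 h'.2⟩
    choose e he hne using hstep
    let nx : {F : Finset (Idx n m) // ↑F ⊆ leads U f} → {F : Finset (Idx n m) // ↑F ⊆ leads U f} :=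
      fun F => ⟨insert (e F) F.1, by rw [Finset.coe_insert]; exact Set.insert_subset (he F) F.2⟩
    let G : ℕ → {F : Finset (Idx n m) // ↑F ⊆ leads U f} := fun k => nx^[k] ⟨∅, by simp⟩
    have hG : ∀ k, G (k + 1) = nx (G k) := fun k => Function.iterate_succ_apply' _ _ _
    have hGmono : Monotone fun k => (G k).1 := monotone_nat_of_le_succ fun k => by
      simp only [hG]; exact Finset.subset_insert _ _
    obtain ⟨i, j, hij, h1, h2⟩ := exists_eq_fst_and_le fun k => e (G k)
    refine hne (G j) (e (G i)) (hGmono hij ?_) ⟨h1, h2⟩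
    show _ ∈ (G (i + 1)).1
    rw [hG]
    exact Finset.mem_insert_self _ _
  choose! kk g hgU hge hgab using fun e (he : e ∈ leads U f) => he
  set s := F.image g
  set W := Submodule.span (MvPolynomial (Fin n) R) (s : Set (Fin m → MvPolynomial (Fin n) R))
  have hlead : ∀ e ∈ leads U f, ∃ (k : ℕ) (y : Fin m → MvPolynomial (Fin n) R), y ∈ W ∧
      idxCoeff y e = f ^ k ∧ ∀ e', idxKey e < idxKey e' → idxCoeff y e' = 0 := by
    intro e he
    obtain ⟨e₀, he₀, h1, h2⟩ := hF e he
    obtain ⟨γ, hγ⟩ := le_iff_exists_add.1 h2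
    have he₀L := hFL he₀
    refine ⟨kk e₀, monomial γ (1 : R) • g e₀,
      W.smul_mem _ (Submodule.subset_span (Finset.mem_image_of_mem g he₀)), ?_, fun e' he'' => ?_⟩
    · have := hge e₀ he₀L
      simp only [idxCoeff, Pi.smul_apply, smul_eq_mul, ← h1, hγ, add_comm e₀.2 γ,
        coeff_monomial_mul, one_mul] at this ⊢
      exact this
    · simp only [idxCoeff, Pi.smul_apply, smul_eq_mul, coeff_monomial_mul', one_mul]
      have hee : e = (e₀.1, e₀.2 + γ) := Prod.ext h1.symm hγ
      split_ifs with hle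
      · refine hgab e₀ he₀L (e'.1, e'.2 - γ) (lt_of_not_ge fun hge => ?_)
        rcases eq_or_lt_of_le hge with heq | hlt
        · refine (ne_of_lt he'') (congrArg idxKey ?_)
          rw [hee, ← idxKey_injective heq]
          exact Prod.ext rfl (tsub_add_cancel_of_le hle)
        · have h4 := idxKey_add_lt hlt γ
          rw [tsub_add_cancel_of_le hle, ← hee] at h4
          exact lt_asymm h4 he''
      · rfl
  refine ⟨f, hfa, hf0, (leads U f)ᶜ, s, ?_, ?_, ?_⟩
  · intro y hy
    obtain ⟨e, he, rfl⟩ := Finset.mem_image.1 hy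
    exact hgU e (hFL he)
  · intro x
    refine top_induction (P := fun x => ∃ k : ℕ, ∃ y, (∀ e, e ∉ (leads U f)ᶜ → idxCoeff y e = 0) ∧
        f ^ k • x - y ∈ W) (fun x e hx ih => ?_) ⟨0, 0, fun e _ => by simp [idxCoeff], by simp⟩ x
    by_cases he : e ∈ leads U f
    · obtain ⟨k, y, hy, hye, hyab⟩ := hlead e he
      obtain ⟨l, z, hz, hzW⟩ := ih (f ^ k • x - idxCoeff x e • y)
        (below_step hx hyab (by rw [hye, mul_comm]))
      refine ⟨l + k, z, hz, ?_⟩
      have h1 : f ^ (l + k) • x - z =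
          (f ^ l • (f ^ k • x - idxCoeff x e • y) - z) + (C (f ^ l * idxCoeff x e) : MvPolynomial (Fin n) R) • y := by
        rw [show (C (f ^ l * idxCoeff x e) : MvPolynomial (Fin n) R) • y = (f ^ l * idxCoeff x e) • y from
          funext fun j => (MvPolynomial.smul_eq_C_mul _ _).symm, smul_sub, smul_smul, smul_smul, ← pow_add]
        abel
      rw [h1]
      exact add_mem hzW (W.smul_mem _ hy)
    · let sg : Fin m → MvPolynomial (Fin n) R := Pi.single e.1 (monomial e.2 (1 : R))
      have hsg : ∀ e', idxCoeff sg e' = if e' = e then 1 else 0 := by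
        rintro ⟨j, b⟩
        obtain ⟨i, a'⟩ := e
        by_cases hj : j = i
        · subst hj
          simp [sg, idxCoeff, coeff_monomial, eq_comm]
        · simp [sg, idxCoeff, hj]
      obtain ⟨l, z, hz, hzW⟩ := ih ((1 : R) • x - idxCoeff x e • sg)
        (below_step hx (fun e' he' => by
          rw [hsg, if_neg]
          rintro rfl
          exact lt_irrefl _ he') (by rw [hsg, if_pos rfl, one_mul, mul_one]))
      refine ⟨l, z + (f ^ l * idxCoeff x e) • sg, fun e' he' => ?_, ?_⟩
      · have h1 := hz e' he'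
        have hne : e' ≠ e := fun h => he' (h ▸ he)
        have h2 : idxCoeff (z + (f ^ l * idxCoeff x e) • sg) e' =
            idxCoeff z e' + f ^ l * idxCoeff x e * idxCoeff sg e' := by simp [idxCoeff]
        rw [h2, h1, hsg, if_neg hne, mul_zero, add_zero]
      · rw [one_smul, smul_sub, smul_smul] at hzW
        rwa [add_comm, ← sub_sub]
  · intro x
    refine top_induction (P := fun x => x ∈ U → (∀ e, e ∉ (leads U f)ᶜ → idxCoeff x e = 0) →
      ∃ k : ℕ, f ^ k • x = 0) (fun x e hx ih hxU hB => ?_) (fun _ _ => ⟨0, by simp⟩) x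
    have hab : ∀ e', idxKey e < idxKey e' → idxCoeff x e' = 0 := fun e' he' => by
      by_contra h
      exact (not_le.2 he') (hx e' h)
    have hfe : f * idxCoeff x e = 0 := by
      by_cases he : e ∈ leads U f
      · rw [hB e (fun h => h he), mul_zero]
      · exact hnot x hxU e hab he
    obtain ⟨k, hk⟩ := ih (f • x - (0 : R) • x) (below_step hx hab (by rw [hfe, zero_mul]))
      (by rw [zero_smul, sub_zero,
            show f • x = (C f : MvPolynomial (Fin n) R) • x from funext fun j => MvPolynomial.smul_eq_C_mul _ _]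
          exact U.smul_mem _ hxU)
      (fun e' he' => by rw [idxCoeff_sub_smul, idxCoeff_smul, hB e' he', mul_zero, mul_zero, sub_zero])
    exact ⟨k + 1, by rwa [zero_smul, sub_zero, smul_smul, ← pow_succ] at hk⟩

variable (U) in
/-- the quotient becomes free after inverting `f` -/
theorem exists_free_localized [IsReduced R] {a : R} (ha : a ≠ 0) {M : Type u} [AddCommGroup M]
    [Module R M] [Module (MvPolynomial (Fin n) R) M] [IsScalarTower R (MvPolynomial (Fin n) R) M]
    (π : (Fin m → MvPolynomial (Fin n) R) →ₗ[MvPolynomial (Fin n) R] M) (hπ : Function.Surjective π) :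
    ∃ f, a ∣ f ∧ f ≠ 0 ∧
      Module.Free (Localization.Away f) (LocalizedModule (Submonoid.powers f) M) ∧
      ∃ s : Finset (Fin m → MvPolynomial (Fin n) R), (∀ x ∈ s, π x = 0) ∧ ∀ x, π x = 0 →
        ∃ k : ℕ, (C (f ^ k) : MvPolynomial (Fin n) R) • x ∈
          Submodule.span (MvPolynomial (Fin n) R) (s : Set (Fin m → MvPolynomial (Fin n) R)) := by
  classical
  obtain ⟨f, hfa, hf0, B, s, hs, hspan, hind⟩ := exists_standard_monomials (LinearMap.ker π) ha
  have hsπ : ∀ x ∈ Submodule.span (MvPolynomial (Fin n) R)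
      (s : Set (Fin m → MvPolynomial (Fin n) R)), π x = 0 :=
    fun x hx => (Submodule.span_le.2 hs hx : x ∈ LinearMap.ker π)
  let J : (B →₀ R) →ₗ[R] (Fin m → MvPolynomial (Fin n) R) :=
    Finsupp.linearCombination R fun e : B => Pi.single e.1.1 (monomial e.1.2 (1 : R))
  have hJ : ∀ v e, idxCoeff (J v) e = if h : e ∈ B then v ⟨e, h⟩ else 0 := by
    intro v e
    induction v using Finsupp.induction_linear with
    | zero => simp [idxCoeff]
    | add v w hv hw =>
      rw [map_add, show idxCoeff (J v + J w) e = idxCoeff (J v) e + idxCoeff (J w) e by simp [idxCoeff],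
        hv, hw]
      split_ifs <;> simp
    | single b r =>
      obtain ⟨⟨i, a'⟩, hb⟩ := b
      obtain ⟨j, c⟩ := e
      rw [Finsupp.linearCombination_single, idxCoeff_smul]
      by_cases hje : ((j, c) : Idx n m) = (i, a')
      · obtain ⟨rfl, rfl⟩ := Prod.mk.injEq .. ▸ hje
        rw [dif_pos hb, Finsupp.single_eq_same]
        simp [idxCoeff]
      · have h0 : idxCoeff (Pi.single i (monomial a' (1 : R)) : Fin m → MvPolynomial (Fin n) R) (j, c) = 0 := by
          by_cases hji : j = i
          · subst hji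
            have : a' ≠ c := fun h => hje (by rw [h])
            simp [idxCoeff, coeff_monomial, this]
          · simp [idxCoeff, hji]
        rw [h0, mul_zero]
        split_ifs with h
        · rw [Finsupp.single_eq_of_ne]
          exact fun h' => hje (congrArg Subtype.val h')
        · rfl
  let Φ : (B →₀ R) →ₗ[R] M := (π.restrictScalars R) ∘ₗ J
  let L := LocalizedModule.map (Submonoid.powers f) Φ
  haveI : Module.Free (Localization.Away f) (LocalizedModule (Submonoid.powers f) (B →₀ R)) :=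
    Module.Free.of_equiv (LocalizedModule.equivTensorProduct (Submonoid.powers f) (B →₀ R)).symm
  refine ⟨f, hfa, hf0, Module.Free.of_equiv (LinearEquiv.ofBijective L ⟨?_, fun y => ?_⟩), s,
    fun x hx => hs hx, fun x hx => ?_⟩
  · rw [injective_iff_map_eq_zero]
    intro z hz
    induction z using LocalizedModule.induction_on with
    | h v d =>
      rw [LocalizedModule.map_mk] at hz
      obtain ⟨⟨_, k, rfl⟩, hk⟩ := LocalizedModule.mk_eq.1 (hz.trans (LocalizedModule.zero_mk 1).symm)
      simp only [one_smul, smul_zero, Submonoid.smul_def] at hk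
      obtain ⟨l, hl⟩ := hind (J (f ^ k • v)) (by
          rw [LinearMap.mem_ker]
          show Φ (f ^ k • v) = 0
          rw [map_smul]; exact hk)
        (fun e he => by rw [hJ, dif_neg he])
      refine (LocalizedModule.mk_eq.2 ⟨⟨f ^ (l + k), (Submonoid.mem_powers_iff _ _).2 ⟨l + k, rfl⟩⟩, ?_⟩).trans
        (LocalizedModule.zero_mk 1)
      simp only [one_smul, smul_zero, Submonoid.smul_def]
      ext ⟨e, he⟩
      have h1 := congrArg (fun w => idxCoeff w e) hl
      simp only [idxCoeff_smul, hJ, dif_pos he] at h1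
      simpa [idxCoeff, pow_add, mul_assoc] using h1
  · induction y using LocalizedModule.induction_on with
    | h x d =>
      obtain ⟨x, rfl⟩ := hπ x
      obtain ⟨k, y, hy, hyW⟩ := hspan x
      have hyJ : J (Finsupp.onFinset
          ((Finset.univ.biUnion fun j => (y j).support.image fun c => ((j, c) : Idx n m)).subtype (· ∈ B))
          (fun e : B => idxCoeff y e.1) (fun e he => by
            obtain ⟨⟨j, c⟩, hc⟩ := e
            simpa [idxCoeff, MvPolynomial.mem_support_iff] using he)) = y := by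
        refine ext_idxCoeff fun e => ?_
        rw [hJ]
        split_ifs with h
        · rfl
        · exact (hy e h).symm
      have hπy : π y = f ^ k • π x := by
        have := hsπ _ hyW
        rw [map_sub, sub_eq_zero] at this
        rw [← this]
        exact LinearMap.map_smul_of_tower π _ _
      obtain ⟨v, hv⟩ : ∃ v, J v = y := ⟨_, hyJ⟩
      refine ⟨LocalizedModule.mk v (d * ⟨f ^ k, (Submonoid.mem_powers_iff _ _).2 ⟨k, rfl⟩⟩), ?_⟩
      rw [LocalizedModule.map_mk]
      refine LocalizedModule.mk_eq.2 ⟨1, ?_⟩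
      show (1 : Submonoid.powers f) • (d • π (J v)) = _
      rw [hv, hπy]
      simp [Submonoid.smul_def, smul_smul, mul_comm]
  · obtain ⟨k, y, hy, hyW⟩ := hspan x
    have hyπ : π y = 0 := by
      have := hsπ _ hyW
      rw [map_sub, LinearMap.map_smul_of_tower, hx, smul_zero, zero_sub, neg_eq_zero] at this
      exact this
    obtain ⟨l, hl⟩ := hind y hyπ hy
    refine ⟨l + k, ?_⟩
    have h2 := Submodule.smul_mem _ (C (f ^ l) : MvPolynomial (Fin n) R) hyW
    convert h2 using 1
    funext j
    simp only [Pi.smul_apply, Pi.sub_apply, smul_eq_mul, MvPolynomial.smul_eq_C_mul] at hl ⊢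
    have hlj : C (f ^ l) * y j = 0 := by
      rw [← MvPolynomial.smul_eq_C_mul]; exact congrFun hl j
    rw [mul_sub, hlj, sub_zero, ← mul_assoc, ← map_mul, pow_add]

end Groth.Agent.GenFree
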